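import Groth.Agent.Lib.Cyc.C1Indep
import Groth.Agent.Lib.Cyc.InducedDimFun
import Groth.Agent.Lib.Cyc.Push
import Groth.Agent.Lib.Cyc.FieldDim
import Groth.Agent.Lib.DerivedOX.PullbackStalk
import Groth.Prelude.Def_PicLoc

/-!
# Cycles and divisors along a closed immersion
-/

set_option autoImplicit false
set_option linter.style.haveILetI false
universe u

open CategoryTheory AlgebraicGeometry IsLocalRing
open scoped TensorProduct

namespace Groth.Agent.Lib.Cyc.Gys.Closed

open Groth.Agent.Lib Groth.Agent.Lib.Cyc Groth.Agent.Lib.Modules.StalkModule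

variable {X D : Scheme.{u}} (i : D ⟶ X) [IsClosedImmersion i] {δ : X → ℤ}

theorem specializes_iff {a b : D} : i a ⤳ i b ↔ a ⤳ b :=
  i.isClosedEmbedding.isInducing.specializes_iff

theorem injective : Function.Injective i := i.isClosedEmbedding.injective

theorem isDimFun (hδ : Cyc.IsDimFun X δ) : Cyc.IsDimFun D (fun d => δ (i d)) := by
  intro x y h hne
  obtain ⟨h1, h2⟩ := hδ (i x) (i y) (h.map i.continuous) fun e => hne (injective i e)
  refine ⟨h1, fun H => h2 fun z hxz hzy => ?_⟩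
  obtain ⟨w, rfl⟩ : z ∈ Set.range ⇑i :=
    hxz.mem_closed i.isClosedEmbedding.isClosed_range (Set.mem_range_self x)
  rcases H w ((specializes_iff i).1 hxz) ((specializes_iff i).1 hzy) with rfl | rfl
  · exact Or.inl rfl
  · exact Or.inr rfl

theorem residue_bijective (d : D) : Function.Bijective (i.residueFieldMap d).hom :=
  ⟨RingHom.injective _, FieldDim.residueFieldMap_surjective (f := i) d⟩

theorem mapCoeff_eq_one (d : D) :
    AlgebraicCycle.mapCoeff i (fun d => δ (i d)) δ d = 1 := by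
  rw [AlgebraicCycle.mapCoeff, if_pos rfl,
    Residue.residueDegree_eq_one_of_surjective d (residue_bijective i d).2]

theorem map_apply_image (α : AlgebraicCycle D ℤ) (d : D) :
    AlgebraicCycle.map i (fun d => δ (i d)) δ α (i d) = α d := by
  rw [Push.map_apply, show ⇑i ⁻¹' {i d} = {d} from Set.ext fun e => (injective i).eq_iff,
    finsum_mem_singleton, mapCoeff_eq_one, Nat.cast_one, mul_one]

theorem map_apply_of_not_mem (α : AlgebraicCycle D ℤ) {x : X} (hx : x ∉ Set.range ⇑i) :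
    AlgebraicCycle.map i (fun d => δ (i d)) δ α x = 0 := by
  rw [Push.map_apply, show ⇑i ⁻¹' {x} = ∅ from Set.eq_empty_of_forall_notMem fun e he => hx ⟨e, he⟩,
    finsum_mem_empty]

theorem map_mem {k : ℤ} {α : AlgebraicCycle D ℤ} (hα : α ∈ Cyc.Zk D (fun d => δ (i d)) k) :
    AlgebraicCycle.map i (fun d => δ (i d)) δ α ∈ Cyc.Zk X δ k := fun x hx => by
  by_cases h : x ∈ Set.range ⇑i
  · obtain ⟨d, rfl⟩ := h
    rw [map_apply_image]
    exact hα d hx
  · exact map_apply_of_not_mem i α h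

theorem locQuotMap_bijective {ζ d : D} (h : ζ ⤳ d) :
    Function.Bijective (InducedDimFun.locQuotMap i ζ d h) := by
  refine ⟨Ideal.quotientMap_injective' fun a ha => ?_, fun b => ?_⟩
  · rw [Ideal.mem_comap, RingHom.mem_ker] at ha
    rw [RingHom.mem_ker]
    exact (residue_bijective i ζ).1 ((InducedDimFun.specMap_stalkMap i ζ d h a).symm.trans
      (ha.trans (map_zero _).symm))
  · obtain ⟨b, rfl⟩ := Ideal.Quotient.mk_surjective b
    obtain ⟨a, rfl⟩ := i.stalkMap_surjective d b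
    exact ⟨Ideal.Quotient.mk _ a, InducedDimFun.locQuotMap_mk i ζ d h a⟩

theorem ord_congr {A B : Type u} [CommRing A] [CommRing B] (e : A ≃+* B) (a : A) :
    Ring.ord B (e a) = Ring.ord A a := by
  letI : Algebra A B := e.toRingHom.toAlgebra
  let f : A ≃ₐ[A] B := AlgEquiv.ofBijective (Algebra.ofId A B) e.bijective
  have h : Ideal.span {e a} = (Ideal.span {a}).map (f : A →+* B) := by
    rw [Ideal.map_span, Set.image_singleton]
    rfl
  exact (Module.length_eq_of_surjective (R := B) (S := A) (M := B ⧸ Ideal.span {e a})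
    e.surjective).symm.trans (Ideal.quotientEquivAlg _ _ f h).toLinearEquiv.length_eq.symm

variable [IsLocallyNoetherian X]

theorem ordAt_map (hδ : Cyc.IsDimFun X δ) {ζ d : D} (h : ζ ⤳ d) (hd : δ (i ζ) ≤ δ (i d) + 1)
    (f : X.residueField (i ζ)) :
    Cyc.ordAt d ζ h (i.residueFieldMap ζ f) = Cyc.ordAt (i d) (i ζ) (h.map i.continuous) f := by
  haveI : IsLocallyNoetherian D := LocallyOfFiniteType.isLocallyNoetherian i
  by_cases hf : f = 0
  · subst hf
    rw [map_zero]
    exact (Ord.ordFrac_of_eq_zero _).trans (Ord.ordFrac_of_eq_zero _).symm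
  have hδD := isDimFun i hδ
  obtain ⟨a, b, hb, hab⟩ := Ord.exists_specMap_fraction (i d) (i ζ) (h.map i.continuous) f
  have ha : Cyc.specMap (i d) (i ζ) (h.map i.continuous) a ≠ 0 := hab ▸ mul_ne_zero hf hb
  have key : ∀ c : X.presheaf.stalk (i d), Cyc.specMap (i d) (i ζ) (h.map i.continuous) c ≠ 0 →
      Cyc.ordAt d ζ h (i.residueFieldMap ζ (Cyc.specMap (i d) (i ζ) (h.map i.continuous) c)) =
        Cyc.ordAt (i d) (i ζ) (h.map i.continuous) (Cyc.specMap (i d) (i ζ) (h.map i.continuous) c) := by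
    intro c hc
    have h1 := InducedDimFun.specMap_stalkMap i ζ d h c
    have h2 := Ord.ordAt_specMap hδ (i d) (i ζ) (h.map i.continuous) hd c hc
    have hc' : Cyc.specMap d ζ h (i.stalkMap d c) ≠ 0 := fun h0 =>
      hc ((residue_bijective i ζ).1 ((h1.symm.trans h0).trans (map_zero _).symm))
    have h3 := Ord.ordAt_specMap hδD d ζ h hd (i.stalkMap d c) hc'
    rw [← h1, h3, h2]
    have h4 := ord_congr (A := Cyc.LocQuot (i d) (i ζ) (h.map i.continuous))
      (B := Cyc.LocQuot d ζ h) (RingEquiv.ofBijective _ (locQuotMap_bijective i h))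
      (Ideal.Quotient.mk _ c)
    rw [RingEquiv.ofBijective_apply, InducedDimFun.locQuotMap_mk] at h4
    rw [h4]
  have hne : ∀ {z : X.residueField (i ζ)}, z ≠ 0 → i.residueFieldMap ζ z ≠ 0 := fun hz h0 =>
    hz ((residue_bijective i ζ).1 (h0.trans (map_zero _).symm))
  have e1 := Ord.ordAt_mul hδ (i d) (i ζ) (h.map i.continuous) hd f _ hf hb
  have e2 := Ord.ordAt_mul hδD d ζ h hd _ _ (hne hf) (hne hb)
  rw [← map_mul, hab, key a ha, key b hb] at e2
  rw [hab] at e1
  omega

theorem divFun_map (hδ : Cyc.IsDimFun X δ) (ζ : D) (f : X.residueField (i ζ)) (d : D) :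
    Cyc.divFun (fun d => δ (i d)) ζ (i.residueFieldMap ζ f) d = Cyc.divFun δ (i ζ) f (i d) := by
  by_cases h : ζ ⤳ d ∧ δ (i d) + 1 = δ (i ζ)
  · rw [Cyc.divFun, Cyc.divFun, dif_pos h, dif_pos ⟨(specializes_iff i).2 h.1, h.2⟩]
    exact ordAt_map i hδ h.1 h.2.ge f
  · rw [Cyc.divFun, Cyc.divFun, dif_neg h, dif_neg fun hc => h ⟨(specializes_iff i).1 hc.1, hc.2⟩]

omit [IsClosedImmersion i] [IsLocallyNoetherian X] in
/-- `L_{i d} → (i^* L)_d`. -/
theorem exists_gen_pullback (L : X.Modules) (d : D) (t : L.presheaf.stalk (i d))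
    (ht : Submodule.span (X.presheaf.stalk (i d)) {t} = ⊤) :
    Submodule.span (D.presheaf.stalk d)
      ({DerivedOX.PullbackStalk.unitStalk i d L t} :
        Set (((Scheme.Modules.pullback i).obj L).presheaf.stalk d)) = ⊤ := by
  letI : Algebra (X.presheaf.stalk (i d)) (D.presheaf.stalk d) := (i.stalkMap d).hom.toAlgebra
  let e : (D.presheaf.stalk d ⊗[X.presheaf.stalk (i d)] L.presheaf.stalk (i d)) ≃ₗ[D.presheaf.stalk d]
      (((Scheme.Modules.pullback i).obj L).presheaf.stalk d) :=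
    (asIso ((DerivedOX.PullbackStalk.comparison i d).app L)).toLinearEquiv
  have h : Submodule.span (D.presheaf.stalk d)
      {(1 : D.presheaf.stalk d) ⊗ₜ[X.presheaf.stalk (i d)] t} = ⊤ := by
    have hb := Submodule.baseChange_span (D.presheaf.stalk d) ({t} : Set (L.presheaf.stalk (i d)))
      (R := X.presheaf.stalk (i d))
    rw [ht, Submodule.baseChange_top, Set.image_singleton] at hb
    exact hb.symm
  refine eq_top_iff.2 fun w _ => ?_
  obtain ⟨z, rfl⟩ := e.surjective w
  obtain ⟨c, rfl⟩ := Submodule.mem_span_singleton.1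
    (show z ∈ Submodule.span (D.presheaf.stalk d)
      {(1 : D.presheaf.stalk d) ⊗ₜ[X.presheaf.stalk (i d)] t} by rw [h]; trivial)
  refine Submodule.mem_span_singleton.2 ⟨c, ?_⟩
  refine Eq.trans ?_ (map_smul e c _).symm
  show c • (_ : ((Scheme.Modules.pullback i).obj L).presheaf.stalk d) = c • _
  congr 1
  exact (DerivedOX.PullbackStalk.comparison_one_tmul i d L t).symm

omit [IsClosedImmersion i] [IsLocallyNoetherian X] in
theorem unitStalk_specializes (L : X.Modules) {ζ d : D} (h : ζ ⤳ d) (t : L.presheaf.stalk (i d)) :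
    ((Scheme.Modules.pullback i).obj L).presheaf.stalkSpecializes h
        ((DerivedOX.PullbackStalk.unitStalk i d L) t) =
      (DerivedOX.PullbackStalk.unitStalk i ζ L)
        (L.presheaf.stalkSpecializes (h.map i.continuous) t) := by
  obtain ⟨U, hU, m, rfl⟩ := TopCat.Presheaf.exists_germ_eq L.presheaf t
  have hζ : i ζ ∈ U := (h.map i.continuous).mem_open U.2 hU
  have e : ∀ (N : X.Modules) (n : Γ(N, U)),
      N.presheaf.stalkSpecializes (h.map i.continuous) (N.presheaf.germ U (i d) hU n) =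
        N.presheaf.germ U (i ζ) hζ n :=
    fun N n => ConcreteCategory.congr_hom (TopCat.Presheaf.germ_stalkSpecializes N.presheaf hU _) n
  rw [e]
  let N := (Scheme.Modules.pullback i).obj L
  let η := (Scheme.Modules.pullbackPushforwardAdjunction i).unit.app L
  show N.presheaf.stalkSpecializes h (DerivedOX.PullbackStalk.pushStalkMap i d N (stalkMapₗ η _ _)) =
    DerivedOX.PullbackStalk.pushStalkMap i ζ N (stalkMapₗ η _ _)
  refine (congrArg (fun z => N.presheaf.stalkSpecializes h (DerivedOX.PullbackStalk.pushStalkMap i d N z))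
    (stalkMapₗ_germ η hU m)).trans (Eq.trans ?_
      (congrArg (DerivedOX.PullbackStalk.pushStalkMap i ζ N) (stalkMapₗ_germ η hζ m)).symm)
  refine (congrArg (N.presheaf.stalkSpecializes h)
    (DerivedOX.PullbackStalk.pushStalkMap_germ i d N hU _)).trans ?_
  refine Eq.trans ?_ (DerivedOX.PullbackStalk.pushStalkMap_germ i ζ N hζ _).symm
  exact ConcreteCategory.congr_hom (TopCat.Presheaf.germ_stalkSpecializes N.presheaf hU h) _

/-- A rational section restricts to a rational section with the same divisor. -/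
theorem exists_secDivFun (hδ : Cyc.IsDimFun X δ) {L : X.Modules} (hL : PicF.IsInvertible L) (ζ : D)
    (s : Cyc.secFibre L (i ζ)) (hs : s ≠ 0) :
    ∃ s' : Cyc.secFibre ((Scheme.Modules.pullback i).obj L) ζ, s' ≠ 0 ∧ ∀ d,
      Cyc.secDivFun (fun d => δ (i d)) ((Scheme.Modules.pullback i).obj L) ζ s' d =
        Cyc.secDivFun δ L (i ζ) s (i d) := by
  haveI : IsLocallyNoetherian D := LocallyOfFiniteType.isLocallyNoetherian i
  have hL' := PicLoc.isInvertible_pullback i hL
  have hδD := isDimFun i hδ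
  obtain ⟨t₀, ht₀, -⟩ := C1Indep.exists_free_gen hL (i ζ)
  obtain ⟨v, rfl⟩ := Submodule.Quotient.mk_surjective _ s
  obtain ⟨a, rfl⟩ := Submodule.mem_span_singleton.1
    (show v ∈ Submodule.span (X.presheaf.stalk (i ζ)) {t₀} by rw [ht₀]; trivial)
  have hau : IsUnit a := by
    by_contra hu
    refine hs ?_
    rw [Submodule.Quotient.mk_eq_zero]
    exact Submodule.smul_mem_smul ((mem_maximalIdeal a).2 hu) trivial
  let Φ := fun d (w : L.presheaf.stalk (i d)) => (DerivedOX.PullbackStalk.unitStalk i d L) w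
  have hΦ : ∀ d (c : X.presheaf.stalk (i d)) w, Φ d (c • w) = (i.stalkMap d).hom c • Φ d w :=
    fun d c w => map_smul (DerivedOX.PullbackStalk.unitStalk i d L).hom c w
  let s' : Cyc.secFibre ((Scheme.Modules.pullback i).obj L) ζ := Submodule.Quotient.mk (Φ ζ (a • t₀))
  have hs' : s' ≠ 0 := by
    have h0 := C1Indep.mk_ne_zero hL' ζ (exists_gen_pullback i L ζ t₀ ht₀)
    intro hz
    refine h0 ?_
    have e : s' = (i.stalkMap ζ).hom a •
        (Submodule.Quotient.mk (Φ ζ t₀) : Cyc.secFibre ((Scheme.Modules.pullback i).obj L) ζ) := by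
      simp only [s', hΦ]
      rfl
    rw [e] at hz
    exact (hau.map (i.stalkMap ζ).hom).smul_eq_zero.1 hz
  refine ⟨s', hs', fun d => ?_⟩
  by_cases h : ζ ⤳ d ∧ δ (i d) + 1 = δ (i ζ)
  swap
  · rw [Cyc.secDivFun, Cyc.secDivFun, dif_neg h, dif_neg fun hc => h ⟨(specializes_iff i).1 hc.1, hc.2⟩]
  rw [Cyc.secDivFun, Cyc.secDivFun, dif_pos h, dif_pos ⟨(specializes_iff i).2 h.1, h.2⟩]
  obtain ⟨t, ht, -⟩ := C1Indep.exists_free_gen hL (i d)
  obtain ⟨φ, hφ⟩ := Submodule.mem_span_singleton.1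
    (show a • t₀ ∈ Submodule.span (X.presheaf.stalk (i ζ))
      {L.presheaf.stalkSpecializes (h.1.map i.continuous) t} by
      rw [C1Indep.span_stalkSpecializes hL _ ht]; trivial)
  rw [C1Indep.secOrdAt_eq hδ hL (i d) (i ζ) (h.1.map i.continuous) h.2.ge _ hs t ht φ (by rw [← hφ]; rfl),
    C1Indep.secOrdAt_eq hδD hL' d ζ h.1 h.2.ge s' hs' (Φ d t) (exists_gen_pullback i L d t ht)
      ((i.stalkMap ζ).hom φ) ?_]
  · rw [← ordAt_map i hδ h.1 h.2.ge]
    congr 1
  · simp only [s', ← hφ, hΦ, Φ]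
    rw [unitStalk_specializes]
    rfl

/-- `c₁(L) ∩ i_* α = i_*(c₁(i^* L) ∩ α)` on coefficients, for suitable sections. -/
theorem exists_c1Cap (hδ : Cyc.IsDimFun X δ) {L : X.Modules} (hL : PicF.IsInvertible L)
    (s : (ξ : X) → Cyc.secFibre L ξ) (hs : ∀ ξ, s ξ ≠ 0) :
    ∃ s' : (ζ : D) → Cyc.secFibre ((Scheme.Modules.pullback i).obj L) ζ, (∀ ζ, s' ζ ≠ 0) ∧
      ∀ (α : AlgebraicCycle D ℤ) (d : D),
        Cyc.c1CapFun δ L ⇑(AlgebraicCycle.map i (fun d => δ (i d)) δ α) s (i d) =
          Cyc.c1CapFun (fun d => δ (i d)) ((Scheme.Modules.pullback i).obj L) ⇑α s' d := by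
  choose s' hs' hdiv using fun ζ : D => exists_secDivFun i hδ hL ζ (s (i ζ)) (hs _)
  refine ⟨s', hs', fun α d => ?_⟩
  rw [Cyc.c1CapFun, Cyc.c1CapFun]
  dsimp only
  rw [← finsum_mem_univ, ← finsum_mem_inter_support_eq (s := Set.range ⇑i) _ Set.univ ?_,
    finsum_mem_range (injective i)]
  · exact finsum_congr fun ζ => by rw [map_apply_image, hdiv]
  · ext x
    simp only [Set.mem_inter_iff, Set.mem_univ, true_and, Function.mem_support]
    refine ⟨fun h => h.2, fun h => ⟨?_, h⟩⟩
    by_contra hx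
    exact h (by rw [map_apply_of_not_mem i α hx, zero_mul])

end Groth.Agent.Lib.Cyc.Gys.Closed
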