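import Groth.Agent.Lib.Cyc.Gys.MulMap
import Groth.Agent.Lib.Cyc.Gys.Closed
import Groth.Agent.Lib.Cyc.C1K.Main

/-!
# The Gysin class of a coherent module
-/

set_option autoImplicit false
set_option linter.style.haveILetI false
universe u

open CategoryTheory CategoryTheory.Limits AlgebraicGeometry

namespace Groth.Agent.Lib.Cyc.Gys.Class

open Groth.Agent.Lib Groth.Agent.Lib.Cyc Groth.Agent.Lib.Modules.StalkModule
  Groth.Agent.Lib.TensorMod.Basic Groth.Agent.Lib.Cyc.C1K Groth.Agent.Lib.KRes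

variable {X D : Scheme.{u}} (i : D ⟶ X) (δ : X → ℤ) (L : X.Modules) (s : L.presheaf.obj (Opposite.op ⊤))

/-- `[coker (s : F → F ⊗ L)] - [ker]` on `D`. -/
noncomputable def gys (a b : ℤ) (F : X.Modules) : Cyc.K0CohQuot (fun d => δ (i d)) a b :=
  Killed.clD i δ a b (cokernel (MulMap.mulS L s F)) - Killed.clD i δ a b (kernel (MulMap.mulS L s F))

/-- Kernel and cokernel of `s` have dimension `≤ a`. -/
def Small (a : ℤ) (F : X.Modules) : Prop :=
  Coh.IsCoh F ∧ Cyc.CohLe δ a (kernel (MulMap.mulS L s F)) ∧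
    Cyc.CohLe δ a (cokernel (MulMap.mulS L s F))

variable [IsClosedImmersion i] [IsLocallyNoetherian X] {δ L s} (hδ : Cyc.IsDimFun X δ)
  (hL : PicF.IsInvertible L) (hD : Cyc.IsZeroSchemeOf i L s) {a b k : ℤ}

include hL in
theorem isCoh_kernel {F : X.Modules} (hF : Coh.IsCoh F) : Coh.IsCoh (kernel (MulMap.mulS L s F)) := by
  haveI := hF.1
  haveI := (CurveBundle.Twist.isCoh hL hF).1
  exact CohBasics.Closure.isCoh_kernel _ hF (CurveBundle.Twist.isCoh hL hF).1

include hL in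
theorem isCoh_cokernel {F : X.Modules} (hF : Coh.IsCoh F) :
    Coh.IsCoh (cokernel (MulMap.mulS L s F)) := by
  haveI := hF.1
  exact CohBasics.Closure.isCoh_cokernel _ hF.1 (CurveBundle.Twist.isCoh hL hF)

include hL in
theorem small_of_cohLe {F : X.Modules} (hF : Cyc.CohLe δ a F) : Small δ L s a F :=
  ⟨hF.1, K0.Cycles.cohLe_of_mono (kernel.ι _) (isCoh_kernel hL hF.1) hF,
    K0.Cycles.cohLe_of_epi (cokernel.π _) (isCoh_cokernel hL hF.1) (Main.cohLe_twist hL hF)⟩

omit [IsClosedImmersion i] [IsLocallyNoetherian X] in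
theorem killed_of_isZero {A : X.Modules} (hA : IsZero A) : Killed.IsKilled i A where
  off x _ := AddCommGrpCat.subsingleton_of_isZero ((Modules.Stalk.stalkFunctor X x).map_isZero hA)
  smul d c _ a := by
    haveI : Subsingleton (A.presheaf.stalk (i d)) :=
      AddCommGrpCat.subsingleton_of_isZero ((Modules.Stalk.stalkFunctor X (i d)).map_isZero hA)
    exact Subsingleton.elim _ _

theorem clD_of_isZero {A : X.Modules} (hA : IsZero A) : Killed.clD i δ a b A = 0 :=
  K0.Cycles.mk_eq_zero (fun d => δ (i d)) a b (Killed.cohLe_pull i (killed_of_isZero i hA)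
    ⟨KRes.CohP.isCoh_of_isZero X hA, fun x hx => absurd hx (by
      rw [not_nontrivial_iff_subsingleton]
      exact AddCommGrpCat.subsingleton_of_isZero ((Modules.Stalk.stalkFunctor X x).map_isZero hA))⟩)

include hL hD in
/-- Additivity. -/
theorem gys_add {S : ShortComplex X.Modules} (hS : S.ShortExact) (h₁ : Small δ L s a S.X₁)
    (h₂ : Small δ L s a S.X₂) (h₃ : Small δ L s a S.X₃) :
    gys i δ L s a b S.X₂ = gys i δ L s a b S.X₁ + gys i δ L s a b S.X₃ := by
  haveI := CurveBundle.Twist.isEquivalence hL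
  have hS' := CurveBundle.Twist.shortExact hL hS
  let v : S ⟶ _ := ShortComplex.homMk (S₂ := S.map (tensorBy L)) (MulMap.mulS L s S.X₁)
    (MulMap.mulS L s S.X₂) (MulMap.mulS L s S.X₃) (MulMap.mulS_natural L s S.f).symm
    (MulMap.mulS_natural L s S.g).symm
  let D' := Dev.Basic.snake hS hS' v
  have k₁ := MulMap.killed_kernel L s hL hD S.X₁
  have k₂ := MulMap.killed_kernel L s hL hD S.X₂
  have k₃ := MulMap.killed_kernel L s hL hD S.X₃
  have c₁ := MulMap.killed_cokernel L s hL hD S.X₁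
  have c₂ := MulMap.killed_cokernel L s hL hD S.X₂
  have e0 := Killed.clD_exact i (δ := δ) (a := a) (b := b) D'.L₀_exact k₁ h₁.2.1 h₂.2.1.1
  have e1 := Killed.clD_exact i (δ := δ) (a := a) (b := b) D'.L₁'_exact k₂ h₂.2.1 h₃.2.1.1
  have e2 := Killed.clD_exact i (δ := δ) (a := a) (b := b) D'.L₂'_exact k₃ h₃.2.1 h₁.2.2.1
  have e3 := Killed.clD_exact i (δ := δ) (a := a) (b := b) D'.L₃_exact c₁ h₁.2.2 h₂.2.2.1
  haveI : Mono D'.L₀.f := by
    change Mono (kernel.map v.τ₁ v.τ₂ S.f _ v.comm₁₂)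
    haveI := hS.mono_f
    exact mono_of_mono_fac (show _ ≫ kernel.ι v.τ₂ = kernel.ι v.τ₁ ≫ S.f by simp)
  haveI : Epi D'.L₃.g := by
    change Epi (cokernel.map v.τ₂ v.τ₃ S.g _ v.comm₂₃)
    haveI : Epi (S.map (tensorBy L)).g := hS'.epi_g
    haveI : Epi ((S.map (tensorBy L)).g ≫ cokernel.π v.τ₃) := epi_comp _ _
    exact epi_of_epi_fac (show cokernel.π v.τ₂ ≫ _ = _ ≫ cokernel.π v.τ₃ from cokernel.π_desc _ _ _)
  haveI := h₂.2.2.1.1
  haveI := h₃.2.2.1.1
  have e4 := Killed.clD_rel i (δ := δ) (a := a) (b := b) (Dev.Basic.shortExact_of_epi D'.L₃.g) c₂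
    h₂.2.2 (CohBasics.Closure.isCoh_kernel D'.L₃.g h₂.2.2.1 h₃.2.2.1.1)
  rw [clD_of_isZero i (isZero_kernel_of_mono D'.L₀.f), zero_add] at e0
  simp only [ShortComplex.SnakeInput.L₁', ShortComplex.SnakeInput.L₂'] at e1 e2
  dsimp only [D', Dev.Basic.snake, v, ShortComplex.homMk] at e0 e1 e2 e3 e4
  rw [gys, gys, gys, e0, e1, e2, e3, e4]
  abel

include hδ hL hD in
/-- In dimension `≤ k` the class vanishes modulo dimension `k - 1`. -/
theorem gys_eq_zero {F : X.Modules} (hF : Cyc.CohLe δ k F) :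
    gys i δ L s (k + 1) (k - 1) F = 0 := by
  haveI : IsLocallyNoetherian D := LocallyOfFiniteType.isLocallyNoetherian i
  let φ := MulMap.mulS L s F
  have hs := small_of_cohLe (s := s) hL hF
  have hK := MulMap.killed_kernel L s hL hD F
  have hC := MulMap.killed_cokernel L s hL hD F
  rw [gys, sub_eq_zero]
  refine Main.cl_eq_of_sheafFun (Closed.isDimFun i hδ) (Killed.cohLe_pull i hC hs.2.2)
    (Killed.cohLe_pull i hK hs.2.1) (funext fun d => ?_)
  rw [Killed.sheafFun_pull i hC, Killed.sheafFun_pull i hK]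
  have hT := Main.cohLe_twist hL hF
  haveI := hF.1.1
  haveI := hT.1.1
  haveI := hs.2.2.1.1
  let S := ShortComplex.mk φ (cokernel.π φ) (cokernel.condition φ)
  haveI : Epi (kernel.lift S.g S.f S.zero) :=
    S.exact_iff_epi_kernel_lift.1 (ShortComplex.exact_cokernel φ)
  have hI : Coh.IsCoh (kernel (cokernel.π φ)) :=
    CohBasics.Closure.isCoh_kernel _ hT.1 hs.2.2.1.1
  have e1 := Retr.K0Tools.cl_of_epi (a := k) (b := k - 1) (kernel.lift S.g S.f S.zero) hF hI
  have e2 := Retr.K0Tools.cl_of_epi (a := k) (b := k - 1) (cokernel.π φ) hT hs.2.2.1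
  let e : kernel (kernel.lift S.g S.f S.zero) ≅ kernel φ :=
    (kernelCompMono _ (kernel.ι S.g)).symm ≪≫ kernelIsoOfEq (kernel.lift_ι _ _ _)
  have hK' : Cyc.CohLe δ k (kernel (kernel.lift S.g S.f S.zero)) := by
    haveI := hI.1
    exact K0.Cycles.cohLe_of_mono (kernel.ι _) (CohBasics.Closure.isCoh_kernel _ hF.1 hI.1) hF
  rw [Retr.K0Tools.cl_iso e hK' hs.2.1.1] at e1
  obtain ⟨ψ, hψ, -, -⟩ := K0.Cycles.main k hδ
  have f1 := congrFun (congrArg ψ e1) (i d)
  have f2 := congrFun (congrArg ψ e2) (i d)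
  rw [map_add, hψ _ hF, hψ _ hs.2.1,
    hψ _ (K0.Cycles.cohLe_of_mono (kernel.ι _) hI hT)] at f1
  rw [map_add, hψ _ hT, hψ _ hs.2.2,
    hψ _ (K0.Cycles.cohLe_of_mono (kernel.ι _) hI hT)] at f2
  have hlen : Cyc.sheafFun δ k (CohB1.tensorMod F L) (i d) = Cyc.sheafFun δ k F (i d) := by
    simp only [Cyc.sheafFun, Main.length_twist hL F]
  simp only [Pi.add_apply, hlen] at f1 f2
  show Cyc.sheafFun δ k (cokernel φ) (i d) = Cyc.sheafFun δ k (kernel φ) (i d)
  linarith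

include hδ hL hD in
/-- The Gysin class only depends on the cycle. -/
theorem exists_hom (k : ℤ) :
    ∃ G : Cyc.K0CohQuot δ (k + 1) k →+ Cyc.K0CohQuot (fun d => δ (i d)) (k + 1) (k - 1),
      ∀ F, Cyc.CohLe δ (k + 1) F →
        G (Cyc.toK0CohQuot δ (k + 1) k F) = gys i δ L s (k + 1) (k - 1) F := by
  refine ⟨QuotientAddGroup.lift _ (KSub.lift (fun F => gys i δ L s (k + 1) (k - 1) F)
    fun _ hS h₁ h₂ h₃ => gys_add i hL hD hS (small_of_cohLe hL h₁) (small_of_cohLe hL h₂)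
      (small_of_cohLe hL h₃)) ?_, fun F hF => ?_⟩
  · refine (AddSubgroup.closure_le _).2 ?_
    rintro _ ⟨F, hF, rfl⟩
    rw [SetLike.mem_coe, AddMonoidHom.mem_ker,
      KSub.lift_cl _ _ (Retr.K0Tools.cohLe_mono (by omega) hF)]
    exact gys_eq_zero i hδ hL hD hF
  · rw [Cyc.toK0CohQuot, QuotientAddGroup.lift_mk, KSub.lift_cl _ _ hF]

end Groth.Agent.Lib.Cyc.Gys.Class
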