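import Groth.Agent.Lib.Cyc.Gys.Cycle

/-!
# The Gysin map respects rational equivalence
-/

set_option autoImplicit false
set_option linter.style.haveILetI false
universe u

open CategoryTheory CategoryTheory.Limits AlgebraicGeometry IsLocalRing

namespace Groth.Agent.Lib.Cyc.Gys.Rat

open Groth.Agent.Lib Groth.Agent.Lib.Cyc Groth.Agent.Lib.Modules.StalkModule
  Groth.Agent.Lib.TensorMod.Basic Groth.Agent.Lib.Cyc.C1K Groth.Agent.Lib.Cyc.Gys.Class

variable {X D : Scheme.{u}} (i : D ⟶ X) [IsClosedImmersion i] [IsLocallyNoetherian X] {δ : X → ℤ}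
  {L : X.Modules} {s : L.presheaf.obj (Opposite.op ⊤)} (hδ : Cyc.IsDimFun X δ)
  (hL : PicF.IsInvertible L) (hD : Cyc.IsZeroSchemeOf i L s) {k : ℤ}

/-- A cycle from a difference of two modules. -/
noncomputable def diffCycle {a : ℤ} (hδ : Cyc.IsDimFun X δ) {P Q : X.Modules}
    (hP : Cyc.CohLe δ a P) (hQ : Cyc.CohLe δ a Q) : AlgebraicCycle X ℤ :=
  FP.Rat.cycleOf a hδ hP - FP.Rat.cycleOf a hδ hQ

omit [IsClosedImmersion i] in
theorem diffCycle_apply {a : ℤ} (hδ : Cyc.IsDimFun X δ) {P Q : X.Modules} (hP : Cyc.CohLe δ a P)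
    (hQ : Cyc.CohLe δ a Q) (x : X) :
    diffCycle hδ hP hQ x = Cyc.sheafFun δ a P x - Cyc.sheafFun δ a Q x := rfl

/-- The Gysin cycle of a difference of two modules with equal Gysin classes. -/
theorem exists_gysin_zero (hδ : Cyc.IsDimFun X δ) (hL : PicF.IsInvertible L)
    (hD : Cyc.IsZeroSchemeOf i L s) {P Q : X.Modules} (hP : Cyc.CohLe δ (k + 1) P)
    (hQ : Cyc.CohLe δ (k + 1) Q)
    (h : gys i δ L s (k + 1) (k - 1) P = gys i δ L s (k + 1) (k - 1) Q)
    (w : (ξ : X) → Cyc.secFibre L ξ) (hw : ∀ ξ, w ξ ≠ 0) :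
    ∃ γ : AlgebraicCycle D ℤ, Cyc.RatEquivZero (fun d => δ (i d)) k γ ∧
      ∀ d, γ d = Cyc.c1CapFun δ L ⇑(diffCycle hδ hP hQ) (Cyc.gysinChoice L s w) (i d) := by
  haveI : IsLocallyNoetherian D := LocallyOfFiniteType.isLocallyNoetherian i
  have hδD := Closed.isDimFun i hδ
  obtain ⟨A, B, hA, hB, e, f⟩ := Cycle.exists_gys i hδ hL hD hP w hw
  obtain ⟨A', B', hA', hB', e', f'⟩ := Cycle.exists_gys i hδ hL hD hQ w hw
  refine ⟨diffCycle hδD hA hB - diffCycle hδD hA' hB', ?_, fun d => ?_⟩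
  · exact Chow.ratEquivZero_of_cl hδD hA hB hA' hB' (by rw [← e, ← e', h]) _ fun d => by
      simp only [Function.locallyFinsuppWithin.coe_sub, Pi.sub_apply, diffCycle_apply]
  · simp only [Function.locallyFinsuppWithin.coe_sub, Pi.sub_apply, diffCycle_apply]
    rw [f, f']
    exact (Chow.c1Cap_sub hδ hP hQ (fun x => diffCycle_apply hδ hP hQ x) _ (i d)).symm

include hδ hL hD in
/-- Modules without components inside `D`. -/
theorem small_of_proper {F : X.Modules} (hF : Cyc.CohLe δ (k + 1 + 1) F)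
    [Mono (MulMap.mulS L s F)]
    (hin : ∀ y ∈ Set.range ⇑i, Nontrivial (F.presheaf.stalk y) → δ y ≤ k + 1) :
    Small δ L s (k + 1) F := by
  have hK := isZero_kernel_of_mono (MulMap.mulS L s F)
  refine ⟨hF.1, ⟨isCoh_kernel hL hF.1, fun y hy => absurd hy (by
    rw [not_nontrivial_iff_subsingleton]
    exact AddCommGrpCat.subsingleton_of_isZero ((Modules.Stalk.stalkFunctor X y).map_isZero hK))⟩,
    isCoh_cokernel hL hF.1, fun y hy => hin y ?_ ?_⟩
  · by_contra h
    exact not_subsingleton_iff_nontrivial.2 hy ((MulMap.killed_cokernel L s hL hD F).off y h)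
  · by_contra h
    haveI := not_nontrivial_iff_subsingleton.1 h
    haveI : Subsingleton ((CohB1.tensorMod F L).presheaf.stalk y) := by
      rw [← Module.length_eq_zero_iff (R := X.presheaf.stalk y), Main.length_twist hL,
        Module.length_eq_zero]
    exact not_subsingleton_iff_nontrivial.2 hy
      ((epi_iff_stalkMapₗ_surjective (cokernel.π (MulMap.mulS L s F))).1 inferInstance y).subsingleton

section Family

variable {ι : Type u} {ξ : ι → X} (hlf : Family.LF ξ) (hξ : ∀ n, δ (ξ n) = k + 1 + 1)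
  (hout : ∀ n, ξ n ∉ Set.range ⇑i)

include hδ hL hD hlf hξ hout in
theorem gys_scale (c : ∀ n, (X.presheaf.stalk (ξ n))ˣ) :
    gys i δ L s (k + 1) (k - 1) (Index.posPart fun n => Lines.scale (Index.base ξ n) (c n)) =
      gys i δ L s (k + 1) (k - 1) (Index.negPart fun n => Lines.scale (Index.base ξ n) (c n)) := by
  let T : Index.Fam ξ fun n => Cyc.closureStructureSheaf (ξ n) :=
    fun n => Lines.scale (Index.base ξ n) (c n)
  have cO : ∀ n, Coh.IsCoh (Cyc.closureStructureSheaf (ξ n)) := fun n =>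
    Devissage.Closure.isCoh_closureStructureSheaf _
  obtain ⟨hP, hN, -⟩ := Chow.parts_spec hδ hlf hξ T cO
  let O := fun n => Cyc.closureStructureSheaf (ξ n)
  let J := fun n => Gen.J (T n)
  let u := Limits.Sigma.map fun n => Gen.incl (T n)
  let v := Limits.Sigma.map fun n => Gen.quot (T n)
  haveI : ∀ n, Mono (Gen.quot (T n)) := fun n => Gen.mono_quot (T n)
  haveI mu : Mono u := Retr.Family.mono_sigma_map _
  haveI mv : Mono v := Retr.Family.mono_sigma_map _
  have hOn : Family.OnCl ξ O := fun n y hy => Retr.Witness.stalk_trivial_of_not_specializes hy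
  have hJn : Family.OnCl ξ J := fun n y hy =>
    haveI := hOn n y hy
    ((mono_iff_stalkMapₗ_injective (Gen.incl (T n))).1 inferInstance y).subsingleton
  have hOc : Cyc.CohLe δ (k + 1 + 1) (∐ O) := Family.cohLe_sigma hlf hOn fun n =>
    ⟨cO n, fun y hy => by
      by_cases hsp : ξ n ⤳ y
      · exact (DimFun.le_of_specializes hδ hsp).trans (hξ n).le
      · exact absurd (hOn n y hsp) (not_subsingleton_iff_nontrivial.2 hy)⟩
  have hJc : Coh.IsCoh (∐ J) := Family.isCoh_sigma hlf hJn fun n => Gen.isCoh_J (T n) (cO n)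
  have hJ : Cyc.CohLe δ (k + 1 + 1) (∐ J) := K0.Cycles.cohLe_of_mono u hJc hOc
  haveI := CurveBundle.Twist.isEquivalence hL
  haveI : ∀ n, Mono (MulMap.mulS L s (O n)) := fun n =>
    (Prime.spec_of_ne_zero hL hδ (hξ n) fun h => hout n ((Cycle.mem_range_iff i hD _).2 h)).1
  haveI hmO : Mono (MulMap.mulS L s (∐ O)) := by
    let e : CohB1.tensorMod (∐ O) L ≅ ∐ fun n => CohB1.tensorMod (O n) L :=
      PreservesCoproduct.iso (tensorBy L) O
    have he : MulMap.mulS L s (∐ O) = Limits.Sigma.map (fun n => MulMap.mulS L s (O n)) ≫ e.inv := by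
      refine Limits.Sigma.hom_ext _ _ fun n => ?_
      rw [MulMap.mulS_natural, Limits.Sigma.ι_map_assoc]
      congr 1
      show (tensorBy L).map (Limits.Sigma.ι O n) = _
      rw [show e.inv = sigmaComparison (tensorBy L) O from PreservesCoproduct.inv_hom (tensorBy L) O]
      exact (ι_comp_sigmaComparison (tensorBy L) O n).symm
    haveI : Mono (Limits.Sigma.map fun n => MulMap.mulS L s (O n)) := Retr.Family.mono_sigma_map _
    rw [he]
    infer_instance
  haveI : Mono (MulMap.mulS L s (∐ J)) := by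
    haveI : Mono (MulMap.mulS L s (∐ J) ≫ tmap u (𝟙 L)) := by
      rw [← MulMap.mulS_natural]
      infer_instance
    exact mono_of_mono _ (tmap u (𝟙 L))
  have hin : ∀ y ∈ Set.range ⇑i, Nontrivial ((∐ O).presheaf.stalk y) → δ y ≤ k + 1 := fun y hy hn => by
    by_contra hlt
    have hbot : (⊥ : Submodule (X.presheaf.stalk y) ((∐ O).presheaf.stalk y)) = ⊤ :=
      K0.Sum.span_stalk_sigma _ y _ fun n z => by
        haveI : Subsingleton ((O n).presheaf.stalk y) := hOn n y fun hsp => by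
          rcases eq_or_ne (ξ n) y with rfl | hne
          · exact hout n hy
          · have h1 := (hδ (ξ n) y hsp hne).1
            have h2 := hξ n
            omega
        rw [Subsingleton.elim z 0, map_zero]
        exact Submodule.zero_mem _
    obtain ⟨w, hw⟩ := exists_ne (0 : (∐ O).presheaf.stalk y)
    exact hw ((Submodule.mem_bot _).1 (hbot ▸ trivial : w ∈ (⊥ : Submodule (X.presheaf.stalk y) _)))
  have sO := small_of_proper i hδ hL hD hOc hin
  have sJ := small_of_proper i hδ hL hD hJ fun y hy hn => hin y hy (by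
    haveI := hn
    exact ((mono_iff_stalkMapₗ_injective u).1 inferInstance y).nontrivial)
  have e1 := gys_add i hL hD (a := k + 1) (b := k - 1) (δ := δ) (s := s)
    (Dev.Basic.shortExact_of_mono u) sJ sO (small_of_cohLe (s := s) hL hN)
  have e2 := gys_add i hL hD (a := k + 1) (b := k - 1) (δ := δ) (s := s)
    (Dev.Basic.shortExact_of_mono v) sJ sO (small_of_cohLe (s := s) hL hP)
  exact add_left_cancel (e2.symm.trans e1)

end Family

include hδ hL hD in
/-- The Gysin map kills cycles rationally equivalent to zero. -/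
theorem ratEquivZero_gysin {α : AlgebraicCycle X ℤ} (h0 : Cyc.RatEquivZero δ (k + 1) α)
    (w : (ξ : X) → Cyc.secFibre L ξ) (hw : ∀ ξ, w ξ ≠ 0) (γ : AlgebraicCycle D ℤ)
    (hγ : ∀ d : D, γ d = Cyc.c1CapFun δ L ⇑α (Cyc.gysinChoice L s w) (i d)) :
    Cyc.RatEquivZero (fun d => δ (i d)) k γ := by
  classical
  haveI : IsLocallyNoetherian D := LocallyOfFiniteType.isLocallyNoetherian i
  have hδD := Closed.isDimFun i hδ
  obtain ⟨ι, ξ, f, hξ, hf, hlf, hα⟩ := h0
  let ι₁ := {n : ι // ξ n ∈ Set.range ⇑i}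
  let ι₂ := {n : ι // ξ n ∉ Set.range ⇑i}
  have hlf₂ : Family.LF fun n : ι₂ => ξ n.1 := fun x => by
    obtain ⟨U, hU, hx, hfin⟩ := hlf x
    exact ⟨U, hU, hx, (hfin.preimage (f := Subtype.val) Subtype.val_injective.injOn).subset fun n hn => hn⟩
  have hex : ∀ n : ι, ∃ c : (X.presheaf.stalk (ξ n))ˣ,
      X.residue (ξ n) (c : X.presheaf.stalk (ξ n)) = f n := fun n => by
    obtain ⟨c, hc⟩ := X.residue_surjective (ξ n) (f n)
    have hu : IsUnit c := by
      by_contra hne
      exact hf n (hc ▸ (IsLocalRing.residue_eq_zero_iff _).2 ((mem_maximalIdeal c).2 hne))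
    exact ⟨hu.unit, hc⟩
  choose c hc using hex
  let T : Index.Fam (fun n : ι₂ => ξ n.1) fun n => Cyc.closureStructureSheaf (ξ n.1) :=
    fun n => Lines.scale (Index.base (fun n : ι₂ => ξ n.1) n) (c n.1)
  obtain ⟨hP, hN, hPN⟩ := Chow.parts_spec hδ hlf₂ (fun n : ι₂ => hξ n.1) T fun n =>
    Devissage.Closure.isCoh_closureStructureSheaf _
  let α₂ := diffCycle hδ hN hP
  have hα₂ : ∀ x, α₂ x = ∑ᶠ n : ι₂, Cyc.divFun δ (ξ n.1) (f n.1) x := fun x => by
    rw [diffCycle_apply, ← neg_sub, hPN (fun n x => -Cyc.divFun δ (ξ n.1) (f n.1) x) (fun n y => by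
      rw [← hc n.1, Chow.div_scale_base hδ (hξ n.1), neg_sub]; rfl) x, finsum_neg_distrib, neg_neg]
  let α₁ := α - α₂
  have hsplit : ∀ x, α₁ x = ∑ᶠ n : ι₁, Cyc.divFun δ (ξ n.1) (f n.1) x := fun x => by
    simp only [α₁, Function.locallyFinsuppWithin.coe_sub, Pi.sub_apply]
    have hfin : (Function.support fun n => Cyc.divFun δ (ξ n) (f n) x).Finite :=
      Ord.finite_support_divFun_family δ ξ f hlf x
    let S : Set ι := {n | ξ n ∈ Set.range ⇑i}
    let g : ι → ℤ := fun n => Cyc.divFun δ (ξ n) (f n) x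
    have e1 : (∑ᶠ n : ι₁, g n.1) = ∑ᶠ n ∈ S, g n := finsum_set_coe_eq_finsum_mem (f := g) S
    have e2 : (∑ᶠ n : ι₂, g n.1) = ∑ᶠ n ∈ Sᶜ, g n := finsum_set_coe_eq_finsum_mem (f := g) Sᶜ
    have key := finsum_mem_union' (f := g) (disjoint_compl_right (a := S))
      (hfin.subset Set.inter_subset_right) (hfin.subset Set.inter_subset_right)
    rw [Set.union_compl_self, finsum_mem_univ, ← e1, ← e2] at key
    rw [hα₂, hα, sub_eq_iff_eq_add]
    exact key
  have hzero : ∀ x ∉ Set.range ⇑i, α₁ x = 0 := fun x hx => by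
    rw [hsplit]
    refine finsum_eq_zero_of_forall_eq_zero fun n => ?_
    exact Ord.divFun_eq_zero_of_not_specializes δ _ _ _ fun hsp => hx
      (hsp.mem_closed i.isClosedEmbedding.isClosed_range n.2)
  let β : AlgebraicCycle D ℤ :=
    { toFun := fun d => α₁ (i d)
      supportWithinDomain' := Set.subset_univ _
      supportLocallyFiniteWithinDomain' := fun d _ => by
        obtain ⟨U, hU, hfin⟩ := α₁.supportLocallyFiniteWithinDomain' (i d) trivial
        exact ⟨⇑i ⁻¹' U, i.continuous.continuousAt.preimage_mem_nhds hU,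
          (hfin.preimage (Closed.injective i).injOn).subset fun e he => ⟨he.1, he.2⟩⟩ }
  have hmap : ⇑(AlgebraicCycle.map i (fun d => δ (i d)) δ β) = ⇑α₁ := funext fun x => by
    by_cases hx : x ∈ Set.range ⇑i
    · obtain ⟨e, rfl⟩ := hx
      exact Closed.map_apply_image i β e
    · rw [Closed.map_apply_of_not_mem i β hx, hzero x hx]
  have hβ0 : Cyc.RatEquivZero (fun d => δ (i d)) (k + 1) β := by
    choose ζ hζ using fun n : ι₁ => n.2
    have hg : ∀ n : ι₁, ∃ g : D.residueField (ζ n), g ≠ 0 ∧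
        ∀ d, Cyc.divFun (fun d => δ (i d)) (ζ n) g d = Cyc.divFun δ (ξ n.1) (f n.1) (i d) := fun n => by
      have gen : ∀ (x : X) (h : i (ζ n) = x) (g : X.residueField x), g ≠ 0 →
          ∃ g' : D.residueField (ζ n), g' ≠ 0 ∧
            ∀ d, Cyc.divFun (fun d => δ (i d)) (ζ n) g' d = Cyc.divFun δ x g (i d) := by
        rintro x rfl g hg
        exact ⟨i.residueFieldMap (ζ n) g, fun h0 => hg ((Closed.residue_bijective i (ζ n)).1
          (h0.trans (map_zero _).symm)), Closed.divFun_map i hδ (ζ n) g⟩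
      exact gen _ (hζ n) _ (hf n.1)
    choose g hg0 hg using hg
    refine ⟨ι₁, ζ, g, fun n => by show δ (i (ζ n)) = _; rw [hζ n, hξ n.1], hg0, fun d => ?_,
      fun d => (hsplit (i d)).trans (finsum_congr fun n => (hg n d).symm)⟩
    obtain ⟨U, hU, hx, hfin⟩ := hlf (i d)
    refine ⟨⇑i ⁻¹' U, hU.preimage i.continuous, hx,
      (hfin.preimage Subtype.val_injective.injOn).subset ?_⟩
    rintro n ⟨e, he, heU⟩
    exact ⟨i e, hζ n ▸ specializes_iff_mem_closure.1 ((specializes_iff_mem_closure.2 he).map i.continuous),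
      heU⟩
  obtain ⟨γ₂, hγ₂, hγ₂'⟩ := exists_gysin_zero i hδ hL hD hN hP
    (gys_scale i hδ hL hD hlf₂ (fun n : ι₂ => hξ n.1) (fun n : ι₂ => n.2) (fun n => c n.1)).symm w hw
  obtain ⟨s', hs', hcap⟩ := Closed.exists_c1Cap i hδ hL _ (Cycle.gysinChoice_ne_zero hw)
  have hγ₁ : ⇑(γ - γ₂) = Cyc.c1CapFun (fun d => δ (i d)) ((Scheme.Modules.pullback i).obj L) ⇑β s' :=
    funext fun d => by
    rw [← hcap, hmap]
    simp only [Function.locallyFinsuppWithin.coe_sub, Pi.sub_apply]
    rw [hγ, hγ₂']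
    simp only [Cyc.c1CapFun]
    have hF : ∀ ζ, ¬ ζ ⤳ i d → Cyc.secDivFun δ L ζ (Cyc.gysinChoice L s w ζ) (i d) = 0 :=
      fun ζ hζ => dif_neg fun h => hζ h.1
    rw [← finsum_sub_distrib (C1Indep.finite_support_mul α _ _ hF)
      (C1Indep.finite_support_mul (diffCycle hδ hN hP) _ _ hF)]
    exact finsum_congr fun ζ => (sub_mul _ _ _).symm
  have h := Ord.ratEquivZero_add
    (Chow.ratEquivZero_c1 hδD (PicLoc.isInvertible_pullback i hL) hβ0 s' hs' _ hγ₁) hγ₂
  rwa [sub_add_cancel] at h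

end Groth.Agent.Lib.Cyc.Gys.Rat
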