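import Groth.Agent.Lib.Cyc.Gys.PullMul
import Groth.Agent.Lib.Cyc.Gys.Rat

/-!
# The Gysin map commutes with flat pullback
-/

set_option autoImplicit false
set_option linter.style.haveILetI false
universe u

open CategoryTheory CategoryTheory.Limits AlgebraicGeometry

namespace Groth.Agent.Lib.Cyc.Gys.FlatPull

open Groth.Agent.Lib Groth.Agent.Lib.Cyc Groth.Agent.Lib.Cyc.C1K

variable {X X' D : Scheme.{u}} (f : X' ⟶ X) (i : D ⟶ X) [IsClosedImmersion i] {δ : X → ℤ} {δ' : X' → ℤ}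

theorem shift_snd {c : ℤ} (hc : FP.Main.Shift f δ' δ c) :
    FP.Main.Shift (pullback.snd f i) (fun z => δ' (pullback.fst f i z)) (fun d => δ (i d)) c := by
  intro z hz
  show δ' (pullback.fst f i z) = δ (i (pullback.snd f i z)) + c
  rw [← PP.GysPush.cond_apply]
  refine hc _ fun w hw hsp => ?_
  obtain ⟨z', rfl⟩ := (PP.GysPush.mem_range_fst f i w).2 ⟨pullback.snd f i z, by
    rw [← PP.GysPush.cond_apply]; exact hw.symm⟩
  have hg : pullback.snd f i z' = pullback.snd f i z := by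
    refine Closed.injective i ?_
    rw [← PP.GysPush.cond_apply, ← PP.GysPush.cond_apply]
    exact hw
  rw [hz z' hg ((Closed.specializes_iff (pullback.fst f i)).1 hsp)]

variable [Flat f] [IsLocallyNoetherian X] [IsLocallyNoetherian X'] {L : X.Modules}
  {s : L.presheaf.obj (Opposite.op ⊤)}
  {s' : ((Scheme.Modules.pullback f).obj L).presheaf.obj (Opposite.op ⊤)} {c k k' : ℤ}

/-- `g^* G(F) = G'(f^* F)`. -/
theorem pullK_gys (hδ' : Cyc.IsDimFun X' δ') (hc : FP.Main.Shift f δ' δ c) (hk : k + c = k')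
    (hL : PicF.IsInvertible L) (hD : Cyc.IsZeroSchemeOf i L s)
    (hD' : Cyc.IsZeroSchemeOf (pullback.fst f i) ((Scheme.Modules.pullback f).obj L) s')
    {F : X.Modules} (hF : Cyc.CohLe δ (k + 1) F) :
    Pull.pullK (pullback.snd f i) (Closed.isDimFun (pullback.fst f i) hδ') (shift_snd f i hc)
        (k + 1) (k - 1) (k' + 1) (k' - 1) (by omega) (by omega) (by omega)
        (Class.gys i δ L s (k + 1) (k - 1) F) =
      Class.gys (pullback.fst f i) δ' ((Scheme.Modules.pullback f).obj L) s' (k' + 1) (k' - 1)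
        ((Scheme.Modules.pullback f).obj F) := by
  let i' := pullback.fst f i
  let g := pullback.snd f i
  have hL' := PicLoc.isInvertible_pullback f hL
  have hF' : Cyc.CohLe δ' (k' + 1) ((Scheme.Modules.pullback f).obj F) :=
    Retr.K0Tools.cohLe_mono (by omega) (Pull.cohLe_pullback f hδ' hc hF)
  have hs := Class.small_of_cohLe (s := s) hL hF
  have hs' := Class.small_of_cohLe (s := s') hL' hF'
  obtain ⟨eK⟩ := PullMul.nonempty_kernelIso f i hL hD hD' F
  obtain ⟨eC⟩ := PullMul.nonempty_cokernelIso f i hL hD hD' F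
  have key : ∀ (A : X.Modules) (B : X'.Modules), Killed.IsKilled i A → Cyc.CohLe δ (k + 1) A →
      Coh.IsCoh B → ((Scheme.Modules.pullback f).obj A ≅ B) →
      Pull.pullK g (Closed.isDimFun i' hδ') (shift_snd f i hc)
        (k + 1) (k - 1) (k' + 1) (k' - 1) (by omega) (by omega) (by omega)
        (Killed.clD i δ (k + 1) (k - 1) A) = Killed.clD i' δ' (k' + 1) (k' - 1) B := by
    intro A B hA hcA hB e
    have h1 := Killed.cohLe_pull i hA hcA
    refine (Pull.pullK_cl g _ _ _ _ _ _ _ _ _ h1).trans ?_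
    refine Retr.K0Tools.cl_iso ((Scheme.Modules.pullbackComp g i).app A ≪≫
      (Scheme.Modules.pullbackCongr pullback.condition.symm).app A ≪≫
      ((Scheme.Modules.pullbackComp i' f).app A).symm ≪≫ (Scheme.Modules.pullback i').mapIso e) ?_
      (FP.Stalk.isCoh_pullback i' hB)
    exact Retr.K0Tools.cohLe_mono (by omega)
      (Pull.cohLe_pullback g (Closed.isDimFun i' hδ') (shift_snd f i hc) h1)
  rw [Class.gys, Class.gys, map_sub,
    key _ _ (MulMap.killed_cokernel L s hL hD F) hs.2.2 hs'.2.2.1 eC,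
    key _ _ (MulMap.killed_kernel L s hL hD F) hs.2.1 hs'.2.1.1 eK]

/-- The two cycles attached to one module. -/
theorem exists_parts (hδ : Cyc.IsDimFun X δ) (hδ' : Cyc.IsDimFun X' δ') (hc : FP.Main.Shift f δ' δ c)
    (hk : k + c = k') (hL : PicF.IsInvertible L) (hD : Cyc.IsZeroSchemeOf i L s)
    (hD' : Cyc.IsZeroSchemeOf (pullback.fst f i) ((Scheme.Modules.pullback f).obj L) s')
    {F : X.Modules} (hF : Cyc.CohLe δ (k + 1) F)
    (w : (ξ : X) → Cyc.secFibre L ξ) (hw : ∀ ξ, w ξ ≠ 0)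
    (w' : (ξ : X') → Cyc.secFibre ((Scheme.Modules.pullback f).obj L) ξ) (hw' : ∀ ξ, w' ξ ≠ 0) :
    ∃ A₁ B₁ A₂ B₂ : (pullback f i : Scheme.{u}).Modules,
      Cyc.CohLe (fun z => δ' (pullback.fst f i z)) k' A₁ ∧
      Cyc.CohLe (fun z => δ' (pullback.fst f i z)) k' B₁ ∧
      Cyc.CohLe (fun z => δ' (pullback.fst f i z)) k' A₂ ∧
      Cyc.CohLe (fun z => δ' (pullback.fst f i z)) k' B₂ ∧
      Cyc.toK0CohQuot (fun z => δ' (pullback.fst f i z)) (k' + 1) (k' - 1) A₁ -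
          Cyc.toK0CohQuot (fun z => δ' (pullback.fst f i z)) (k' + 1) (k' - 1) B₁ =
        Cyc.toK0CohQuot (fun z => δ' (pullback.fst f i z)) (k' + 1) (k' - 1) A₂ -
          Cyc.toK0CohQuot (fun z => δ' (pullback.fst f i z)) (k' + 1) (k' - 1) B₂ ∧
      (∀ z, Cyc.sheafFun (fun z => δ' (pullback.fst f i z)) k' A₁ z -
          Cyc.sheafFun (fun z => δ' (pullback.fst f i z)) k' B₁ z =
        Cyc.c1CapFun δ' ((Scheme.Modules.pullback f).obj L)
          (Cyc.sheafFun δ' (k' + 1) ((Scheme.Modules.pullback f).obj F))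
          (Cyc.gysinChoice ((Scheme.Modules.pullback f).obj L) s' w') (pullback.fst f i z)) ∧
      ∀ z, Cyc.sheafFun (fun z => δ' (pullback.fst f i z)) k' A₂ z -
          Cyc.sheafFun (fun z => δ' (pullback.fst f i z)) k' B₂ z =
        Cyc.pullFun (pullback.snd f i) (fun z => δ' (pullback.fst f i z)) (fun d => δ (i d)) c
          (fun d => Cyc.c1CapFun δ L (Cyc.sheafFun δ (k + 1) F) (Cyc.gysinChoice L s w) (i d)) z := by
  haveI : IsLocallyNoetherian D := LocallyOfFiniteType.isLocallyNoetherian i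
  let g := pullback.snd f i
  have hδg := Closed.isDimFun (pullback.fst f i) hδ'
  have hcg := shift_snd f i hc
  have hL' := PicLoc.isInvertible_pullback f hL
  have hF' : Cyc.CohLe δ' (k' + 1) ((Scheme.Modules.pullback f).obj F) :=
    Retr.K0Tools.cohLe_mono (by omega) (Pull.cohLe_pullback f hδ' hc hF)
  obtain ⟨A, B, hA, hB, e, fe⟩ := Cycle.exists_gys i hδ hL hD hF w hw
  obtain ⟨A', B', hA', hB', e', fe'⟩ := Cycle.exists_gys (pullback.fst f i) hδ' hL' hD' hF' w' hw'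
  have hp : ∀ {M : D.Modules}, Cyc.CohLe (fun d => δ (i d)) k M →
      Cyc.CohLe (fun z => δ' (pullback.fst f i z)) k' ((Scheme.Modules.pullback g).obj M) := fun hM =>
    Retr.K0Tools.cohLe_mono (by omega) (Pull.cohLe_pullback g hδg hcg hM)
  have t := pullK_gys f i hδ' hc hk hL hD hD' hF
  rw [e, e', map_sub, Pull.pullK_cl g hδg hcg _ _ _ _ _ _ _ (Retr.K0Tools.cohLe_mono (by omega) hA),
    Pull.pullK_cl g hδg hcg _ _ _ _ _ _ _ (Retr.K0Tools.cohLe_mono (by omega) hB)] at t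
  refine ⟨A', B', _, _, hA', hB', hp hA, hp hB, t.symm, fe', fun z => ?_⟩
  rw [← funext fe, FP.Rat.pullFun_sub, FP.Main.pullFun_sheafFun g hδg hcg k A hA.2,
    FP.Main.pullFun_sheafFun g hδg hcg k B hB.2, hk]

/-- `i'^* f^* α ∼ g^* i^* α`. -/
theorem ratEquiv_gysin_pull (hδ : Cyc.IsDimFun X δ) (hδ' : Cyc.IsDimFun X' δ')
    (hc : FP.Main.Shift f δ' δ c) (hk : k + c = k') (hL : PicF.IsInvertible L)
    (hD : Cyc.IsZeroSchemeOf i L s)
    (hD' : Cyc.IsZeroSchemeOf (pullback.fst f i) ((Scheme.Modules.pullback f).obj L) s')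
    {α : AlgebraicCycle X ℤ} (hα : α ∈ Cyc.Zk X δ (k + 1))
    (w : (ξ : X) → Cyc.secFibre L ξ) (hw : ∀ ξ, w ξ ≠ 0)
    (w' : (ξ : X') → Cyc.secFibre ((Scheme.Modules.pullback f).obj L) ξ) (hw' : ∀ ξ, w' ξ ≠ 0)
    (ζ₁ ζ₂ : AlgebraicCycle (pullback f i) ℤ)
    (h₁ : ∀ z, ζ₁ z = Cyc.c1CapFun δ' ((Scheme.Modules.pullback f).obj L) (Cyc.pullFun f δ' δ c ⇑α)
      (Cyc.gysinChoice ((Scheme.Modules.pullback f).obj L) s' w') (pullback.fst f i z))
    (h₂ : ⇑ζ₂ = Cyc.pullFun (pullback.snd f i) (fun z => δ' (pullback.fst f i z)) (fun d => δ (i d)) c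
      (fun d => Cyc.c1CapFun δ L ⇑α (Cyc.gysinChoice L s w) (i d))) :
    Cyc.RatEquiv (fun z => δ' (pullback.fst f i z)) k' ζ₁ ζ₂ := by
  haveI : IsLocallyNoetherian (pullback f i : Scheme.{u}) :=
    LocallyOfFiniteType.isLocallyNoetherian (pullback.fst f i)
  let δg := fun z => δ' (pullback.fst f i z)
  have hδg : Cyc.IsDimFun (pullback f i : Scheme.{u}) δg := Closed.isDimFun (pullback.fst f i) hδ'
  obtain ⟨hP, hN, hPN⟩ := C1K.Main.cycleSheaf_sub hδ α hα
  set P := Cyc.cycleSheafPos ⇑α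
  set N := Cyc.cycleSheafNeg ⇑α
  obtain ⟨a₁, b₁, a₂, b₂, ha₁, hb₁, ha₂, hb₂, e, p₁, p₂⟩ :=
    exists_parts f i hδ hδ' hc hk hL hD hD' hP w hw w' hw'
  obtain ⟨a₃, b₃, a₄, b₄, ha₃, hb₃, ha₄, hb₄, e', p₃, p₄⟩ :=
    exists_parts f i hδ hδ' hc hk hL hD hD' hN w hw w' hw'
  have hP' : Cyc.CohLe δ' (k' + 1) ((Scheme.Modules.pullback f).obj P) :=
    Retr.K0Tools.cohLe_mono (by omega) (Pull.cohLe_pullback f hδ' hc hP)
  have hN' : Cyc.CohLe δ' (k' + 1) ((Scheme.Modules.pullback f).obj N) :=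
    Retr.K0Tools.cohLe_mono (by omega) (Pull.cohLe_pullback f hδ' hc hN)
  have hα' : ⇑α = fun z => Cyc.sheafFun δ (k + 1) P z - Cyc.sheafFun δ (k + 1) N z :=
    funext fun z => (hPN z).symm
  have hpull : ∀ y, Cyc.pullFun f δ' δ c ⇑α y =
      Cyc.sheafFun δ' (k' + 1) ((Scheme.Modules.pullback f).obj P) y -
        Cyc.sheafFun δ' (k' + 1) ((Scheme.Modules.pullback f).obj N) y := fun y => by
    rw [hα', FP.Rat.pullFun_sub, FP.Main.pullFun_sheafFun f hδ' hc (k + 1) P hP.2,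
      FP.Main.pullFun_sheafFun f hδ' hc (k + 1) N hN.2, show k + 1 + c = k' + 1 by omega]
  have g := fun {M M' : (pullback f i : Scheme.{u}).Modules} (hM : Cyc.CohLe δg k' M)
      (hM' : Cyc.CohLe δg k' M') =>
    K0.Cycles.mk_rel δg (k' + 1) (k' - 1)
      (ShortComplex.Splitting.ofHasBinaryBiproduct M M').shortExact
      (Retr.K0Tools.cohLe_mono (by omega) hM)
      (Retr.K0Tools.cohLe_mono (by omega) (K0.Cycles.cohLe_biprod hM hM'))
      (Retr.K0Tools.cohLe_mono (by omega) hM')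
  refine Chow.ratEquivZero_of_cl hδg (K0.Cycles.cohLe_biprod ha₁ hb₃) (K0.Cycles.cohLe_biprod hb₁ ha₃)
    (K0.Cycles.cohLe_biprod ha₂ hb₄) (K0.Cycles.cohLe_biprod hb₂ ha₄) ?_ _ fun z => ?_
  · have g1 := g ha₁ hb₃
    have g2 := g hb₁ ha₃
    have g3 := g ha₂ hb₄
    have g4 := g hb₂ ha₄
    dsimp only at g1 g2 g3 g4
    rw [g1, g2, g3, g4]
    linear_combination (norm := abel) e - e'
  · have hg : (fun d => Cyc.c1CapFun δ L ⇑α (Cyc.gysinChoice L s w) (i d)) = fun d =>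
        Cyc.c1CapFun δ L (Cyc.sheafFun δ (k + 1) P) (Cyc.gysinChoice L s w) (i d) -
          Cyc.c1CapFun δ L (Cyc.sheafFun δ (k + 1) N) (Cyc.gysinChoice L s w) (i d) :=
      funext fun d => Chow.c1Cap_sub hδ hP hN (fun x => (hPN x).symm) _ (i d)
    rw [Function.locallyFinsuppWithin.coe_sub, Pi.sub_apply, h₁, h₂,
      Chow.c1Cap_sub hδ' hP' hN' hpull, ← p₁, ← p₃, hg, FP.Rat.pullFun_sub, ← p₂, ← p₄,
      Chow.sheafFun_biprod hδg ha₁ hb₃, Chow.sheafFun_biprod hδg hb₁ ha₃,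
      Chow.sheafFun_biprod hδg ha₂ hb₄, Chow.sheafFun_biprod hδg hb₂ ha₄]
    ring

end Groth.Agent.Lib.Cyc.Gys.FlatPull
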