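import Groth.Agent.Lib.Cyc.PP.GysPush

/-!
# The pullback of a zero scheme is a zero scheme
-/

set_option autoImplicit false
set_option linter.style.haveILetI false
universe u

open CategoryTheory CategoryTheory.Limits AlgebraicGeometry

namespace Groth.Agent.Lib.Cyc.Gys.PullZero

open Groth.Agent.Lib Groth.Agent.Lib.Cyc Groth.Agent.Lib.Modules.StalkModule

variable {X X' D : Scheme.{u}} (f : X' ⟶ X) {L : X.Modules}

theorem germ_unitSec (s : L.presheaf.obj (Opposite.op ⊤)) (ξ : X') :
    ((Scheme.Modules.pullback f).obj L).presheaf.germ ⊤ ξ trivial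
        (TensorMod.Pullback.unitSec f L (U := ⊤) s) =
      DerivedOX.PullbackStalk.unitStalk f ξ L (L.presheaf.germ ⊤ (f ξ) trivial s) := by
  refine Eq.symm ((congrArg (DerivedOX.PullbackStalk.pushStalkMap f ξ _)
    (stalkMapₗ_germ ((Scheme.Modules.pullbackPushforwardAdjunction f).unit.app L) (U := ⊤) trivial s)).trans ?_)
  exact DerivedOX.PullbackStalk.pushStalkMap_germ f ξ ((Scheme.Modules.pullback f).obj L) (U := ⊤) trivial _

variable (i : D ⟶ X) [IsClosedImmersion i] {s : L.presheaf.obj (Opposite.op ⊤)}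

/-- The pulled back section cuts out the pulled back zero scheme. -/
theorem exists_zeroSection (hL : PicF.IsInvertible L) (hD : Cyc.IsZeroSchemeOf i L s) :
    ∃ s' : ((Scheme.Modules.pullback f).obj L).presheaf.obj (Opposite.op ⊤),
      Cyc.IsZeroSchemeOf (pullback.fst f i) ((Scheme.Modules.pullback f).obj L) s' := by
  have hL' := PicLoc.isInvertible_pullback f hL
  have hsmul : ∀ (ξ : X') (a : X.presheaf.stalk (f ξ)) (t : L.presheaf.stalk (f ξ)),
      DerivedOX.PullbackStalk.unitStalk f ξ L (a • t) =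
        (f.stalkMap ξ).hom a • DerivedOX.PullbackStalk.unitStalk f ξ L t :=
    fun ξ a t => map_smul (DerivedOX.PullbackStalk.unitStalk f ξ L).hom a t
  refine ⟨TensorMod.Pullback.unitSec f L (U := ⊤) s, Set.ext fun ξ => ?_, fun z => ?_⟩
  · rw [PP.GysPush.mem_range_fst, hD.1]
    show (Submodule.Quotient.mk _ : Cyc.secFibre L (f ξ)) = 0 ↔
      (Submodule.Quotient.mk _ : Cyc.secFibre ((Scheme.Modules.pullback f).obj L) ξ) = 0
    obtain ⟨t, a, ht, hs⟩ := MulMap.exists_coeff L s hL (f ξ)
    rw [germ_unitSec, hs, hsmul]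
    show a • (Submodule.Quotient.mk t : Cyc.secFibre L (f ξ)) = 0 ↔
      (f.stalkMap ξ).hom a • (Submodule.Quotient.mk (DerivedOX.PullbackStalk.unitStalk f ξ L t) :
        Cyc.secFibre ((Scheme.Modules.pullback f).obj L) ξ) = 0
    have n₁ := C1Indep.mk_ne_zero hL (f ξ) ht
    have n₂ := C1Indep.mk_ne_zero hL' ξ (Closed.exists_gen_pullback f L ξ t ht)
    by_cases ha : IsUnit a
    · rw [ha.smul_eq_zero, (ha.map (f.stalkMap ξ).hom).smul_eq_zero]
      exact ⟨fun h => absurd h n₁, fun h => absurd h n₂⟩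
    · refine ⟨fun _ => ?_, fun _ => ?_⟩ <;> rw [← Submodule.Quotient.mk_smul, Submodule.Quotient.mk_eq_zero]
      · exact Submodule.smul_mem_smul ((IsLocalRing.mem_maximalIdeal _).2
          fun h => ha (IsLocalHom.map_nonunit (f := (f.stalkMap ξ).hom) a h)) trivial
      · exact Submodule.smul_mem_smul ((IsLocalRing.mem_maximalIdeal a).2 ha) trivial
  · obtain ⟨t, a, ht, hs, hker⟩ := PP.GysPush.exists_coeff f i hD z
    refine ⟨_, f.stalkMap (pullback.fst f i z) a,
      Closed.exists_gen_pullback f L (pullback.fst f i z) t ht, ?_, hker⟩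
    rw [germ_unitSec, hs]
    exact hsmul _ a t

end Groth.Agent.Lib.Cyc.Gys.PullZero
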