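import Groth.Agent.Lib.Cyc.Gys.Divisor
import Groth.Agent.Lib.Cyc.C1K.Comm

/-!
# The Gysin map commutes with `c₁`
-/

set_option autoImplicit false
set_option linter.style.haveILetI false
universe u

open CategoryTheory CategoryTheory.Limits AlgebraicGeometry

namespace Groth.Agent.Lib.Cyc.Gys.C1

open Groth.Agent.Lib Groth.Agent.Lib.Cyc Groth.Agent.Lib.Cyc.C1K

variable {X D : Scheme.{u}} {δ : X → ℤ} {k : ℤ}

open Classical in
/-- The part of a cycle on a set. -/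
noncomputable def restr (α : AlgebraicCycle X ℤ) (S : Set X) : AlgebraicCycle X ℤ where
  toFun x := if x ∈ S then α x else 0
  supportWithinDomain' := Set.subset_univ _
  supportLocallyFiniteWithinDomain' x _ := by
    obtain ⟨t, ht, hf⟩ := α.supportLocallyFiniteWithinDomain' x trivial
    refine ⟨t, ht, hf.subset fun y hy => ⟨hy.1, fun h0 => hy.2 ?_⟩⟩
    show (if y ∈ S then α y else 0) = 0
    rw [show α y = 0 from h0, ite_self]

theorem restr_apply_mem (α : AlgebraicCycle X ℤ) {S : Set X} {x : X} (h : x ∈ S) : restr α S x = α x :=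
  if_pos h

theorem restr_apply_not_mem (α : AlgebraicCycle X ℤ) {S : Set X} {x : X} (h : x ∉ S) :
    restr α S x = 0 :=
  if_neg h

theorem restr_add_compl (α : AlgebraicCycle X ℤ) (S : Set X) : restr α S + restr α Sᶜ = α :=
  Function.locallyFinsuppWithin.ext fun x => by
    rw [Function.locallyFinsuppWithin.coe_add, Pi.add_apply]
    by_cases h : x ∈ S
    · rw [restr_apply_mem α h, restr_apply_not_mem α (Set.notMem_compl_iff.2 h), add_zero]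
    · rw [restr_apply_not_mem α h, restr_apply_mem α (Set.mem_compl h), zero_add]

theorem restr_mem {α : AlgebraicCycle X ℤ} (hα : α ∈ Cyc.Zk X δ k) (S : Set X) :
    restr α S ∈ Cyc.Zk X δ k := fun x hx => by
  by_cases h : x ∈ S
  · rw [restr_apply_mem α h]; exact hα x hx
  · exact restr_apply_not_mem α h

/-- The restriction of a cycle to `D`, coefficientwise. -/
def pullCycle (i : D ⟶ X) [IsClosedImmersion i] (α : AlgebraicCycle X ℤ) : AlgebraicCycle D ℤ where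
  toFun d := α (i d)
  supportWithinDomain' := Set.subset_univ _
  supportLocallyFiniteWithinDomain' d _ := by
    obtain ⟨U, hU, hfin⟩ := α.supportLocallyFiniteWithinDomain' (i d) trivial
    exact ⟨⇑i ⁻¹' U, i.continuous.continuousAt.preimage_mem_nhds hU,
      (hfin.preimage (Closed.injective i).injOn).subset fun e he => ⟨he.1, he.2⟩⟩

theorem c1Cap_add {L : X.Modules} (α β : AlgebraicCycle X ℤ) (s : (ξ : X) → Cyc.secFibre L ξ)
    (x : X) :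
    Cyc.c1CapFun δ L ⇑(α + β) s x = Cyc.c1CapFun δ L ⇑α s x + Cyc.c1CapFun δ L ⇑β s x := by
  have hF : ∀ ζ, ¬ ζ ⤳ x → Cyc.secDivFun δ L ζ (s ζ) x = 0 := fun ζ hζ => dif_neg fun h => hζ h.1
  simp only [Cyc.c1CapFun]
  rw [← finsum_add_distrib (C1Indep.finite_support_mul α _ x hF) (C1Indep.finite_support_mul β _ x hF)]
  exact finsum_congr fun ζ => by rw [Function.locallyFinsuppWithin.coe_add, Pi.add_apply, add_mul]

variable [IsLocallyNoetherian X]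

/-- `c₁(L) ∩ α` is a cycle. -/
theorem exists_cap (hδ : Cyc.IsDimFun X δ) {L : X.Modules} (hL : PicF.IsInvertible L)
    {α : AlgebraicCycle X ℤ} (hα : α ∈ Cyc.Zk X δ (k + 1)) (s : (ξ : X) → Cyc.secFibre L ξ)
    (hs : ∀ ξ, s ξ ≠ 0) : ∃ γ : AlgebraicCycle X ℤ, ⇑γ = Cyc.c1CapFun δ L ⇑α s :=
  have h := Main.cycleSheaf_sub hδ α hα
  Comm.exists_cap hδ hL h.1 h.2.1 (fun x => (h.2.2 x).symm) s hs

theorem cap_mem (hδ : Cyc.IsDimFun X δ) {L : X.Modules}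
    {α : AlgebraicCycle X ℤ} (hα : α ∈ Cyc.Zk X δ (k + 1)) (s : (ξ : X) → Cyc.secFibre L ξ)
    (γ : AlgebraicCycle X ℤ) (hγ : ⇑γ = Cyc.c1CapFun δ L ⇑α s) : γ ∈ Cyc.Zk X δ k := fun x hx => by
  rw [hγ]
  refine finsum_eq_zero_of_forall_eq_zero fun ζ => ?_
  by_cases h : δ ζ = k + 1
  · rw [show Cyc.secDivFun δ L ζ (s ζ) x = 0 from dif_neg fun h' => hx (by omega), mul_zero]
  · rw [hα ζ h, zero_mul]

variable (i : D ⟶ X) [IsClosedImmersion i] {L N : X.Modules} {s : L.presheaf.obj (Opposite.op ⊤)}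
  (hδ : Cyc.IsDimFun X δ) (hL : PicF.IsInvertible L) (hN : PicF.IsInvertible N)
  (hD : Cyc.IsZeroSchemeOf i L s)

include hδ hL hN hD in
/-- An effective cycle meeting `D` properly. -/
theorem exists_family {ι : Type u} {ξ : ι → X} (hlf : Family.LF ξ) (hξ : ∀ n, δ (ξ n) = k + 1 + 1)
    (hout : ∀ n, ξ n ∉ Set.range ⇑i) (w : (ξ : X) → Cyc.secFibre L ξ) (hw : ∀ ξ, w ξ ≠ 0)
    (v : (ξ : X) → Cyc.secFibre N ξ) (hv : ∀ ξ, v ξ ≠ 0)
    (t : (d : D) → Cyc.secFibre ((Scheme.Modules.pullback i).obj N) d) (ht : ∀ d, t d ≠ 0) :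
    ∃ (ρ : AlgebraicCycle X ℤ) (σ γ ζ : AlgebraicCycle D ℤ),
      (∀ x, ρ x = ∑ᶠ n, Cyc.secDivFun δ N (ξ n) (v (ξ n)) x) ∧
      (∀ d, σ d = ∑ᶠ n, Cyc.secDivFun δ L (ξ n) (Cyc.gysinChoice L s w (ξ n)) (i d)) ∧
      (∀ d, γ d = Cyc.c1CapFun δ L ⇑ρ (Cyc.gysinChoice L s w) (i d)) ∧
      ⇑ζ = Cyc.c1CapFun (fun d => δ (i d)) ((Scheme.Modules.pullback i).obj N) ⇑σ t ∧
      Cyc.RatEquiv (fun d => δ (i d)) k γ ζ := by
  haveI : IsLocallyNoetherian D := LocallyOfFiniteType.isLocallyNoetherian i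
  have hg := Cycle.gysinChoice_ne_zero (s := s) hw
  obtain ⟨_, _, hP, hQ, e⟩ := Comm.exists_div hδ hlf hξ hN (fun n => v (ξ n)) fun n => hv _
  obtain ⟨_, _, hP', hQ', e'⟩ := Comm.exists_div hδ hlf hξ hL
    (fun n => Cyc.gysinChoice L s w (ξ n)) fun n => hg _
  let ρ := Rat.diffCycle hδ hP hQ
  let σ := pullCycle i (Rat.diffCycle hδ hP' hQ')
  obtain ⟨γ₀, hγ₀⟩ := Comm.exists_cap hδ hL hP hQ (ρ := ⇑ρ) (fun x => Rat.diffCycle_apply hδ hP hQ x) _ hg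
  have hσ : σ ∈ Cyc.Zk D (fun d => δ (i d)) (k + 1) := fun d hd => by
    show Rat.diffCycle hδ hP' hQ' (i d) = 0
    rw [Rat.diffCycle_apply]
    simp only [Cyc.sheafFun, if_neg hd, sub_zero]
  obtain ⟨ζ, hζ⟩ := exists_cap (Closed.isDimFun i hδ) (PicLoc.isInvertible_pullback i hN) hσ t ht
  have hρ : ∀ x, ρ x = ∑ᶠ n, Cyc.secDivFun δ N (ξ n) (v (ξ n)) x := fun x => (e x).symm
  have hσ' : ∀ d, σ d = ∑ᶠ n, Cyc.secDivFun δ L (ξ n) (Cyc.gysinChoice L s w (ξ n)) (i d) :=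
    fun d => (e' (i d)).symm
  have hγ : ∀ d, pullCycle i γ₀ d = Cyc.c1CapFun δ L ⇑ρ (Cyc.gysinChoice L s w) (i d) :=
    fun d => congrFun hγ₀ (i d)
  exact ⟨ρ, σ, pullCycle i γ₀, ζ, hρ, hσ', hγ, hζ,
    Divisor.ratEquiv_gysin_div i hδ hL hN hD hlf hξ hout (fun n => v (ξ n)) (fun n => hv _) ⇑ρ hρ
      ⇑σ w hw hσ' t ht _ ζ hγ hζ⟩

include hδ hL hN hD in
/-- `i^*(c₁(N) ∩ α) ∼ c₁(N|D) ∩ i^*α`. -/
theorem ratEquiv_gysin_c1 {α : AlgebraicCycle X ℤ} (hα : α ∈ Cyc.Zk X δ (k + 1 + 1))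
    (w : (ξ : X) → Cyc.secFibre L ξ) (hw : ∀ ξ, w ξ ≠ 0)
    (v : (ξ : X) → Cyc.secFibre N ξ) (hv : ∀ ξ, v ξ ≠ 0)
    (t : (d : D) → Cyc.secFibre ((Scheme.Modules.pullback i).obj N) d) (ht : ∀ d, t d ≠ 0)
    (β : AlgebraicCycle X ℤ) (hβ : ⇑β = Cyc.c1CapFun δ N ⇑α v) (g : D → ℤ)
    (hg : g = fun d => Cyc.c1CapFun δ L ⇑α (Cyc.gysinChoice L s w) (i d))
    (ζ₁ ζ₂ : AlgebraicCycle D ℤ)
    (h₁ : ∀ d, ζ₁ d = Cyc.c1CapFun δ L ⇑β (Cyc.gysinChoice L s w) (i d))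
    (h₂ : ⇑ζ₂ = Cyc.c1CapFun (fun d => δ (i d)) ((Scheme.Modules.pullback i).obj N) g t) :
    Cyc.RatEquiv (fun d => δ (i d)) k ζ₁ ζ₂ := by
  haveI : IsLocallyNoetherian D := LocallyOfFiniteType.isLocallyNoetherian i
  have hδD := Closed.isDimFun i hδ
  have hgs := Cycle.gysinChoice_ne_zero (s := s) hw
  -- inside
  set αi := restr α (Set.range ⇑i) with hαi
  set αo := restr α (Set.range ⇑i)ᶜ with hαo
  let a := pullCycle i αi
  have ha : a ∈ Cyc.Zk D (fun d => δ (i d)) (k + 1 + 1) := fun d hd => restr_mem hα _ (i d) hd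
  have hmap : AlgebraicCycle.map i (fun d => δ (i d)) δ a = αi := Function.locallyFinsuppWithin.ext fun x => by
    by_cases hx : x ∈ Set.range ⇑i
    · obtain ⟨e, rfl⟩ := hx
      exact Closed.map_apply_image i a e
    · rw [Closed.map_apply_of_not_mem i a hx, hαi, restr_apply_not_mem α hx]
  have hLD := PicLoc.isInvertible_pullback i hL
  have hND := PicLoc.isInvertible_pullback i hN
  obtain ⟨v', hv', hcapN⟩ := Closed.exists_c1Cap i hδ hN v hv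
  obtain ⟨w', hw', hcapL⟩ := Closed.exists_c1Cap i hδ hL _ hgs
  obtain ⟨b, hb⟩ := exists_cap hδD hND ha v' hv'
  have hbm := cap_mem hδD ha v' b hb
  obtain ⟨c, hc⟩ := exists_cap hδD hLD ha w' hw'
  have hcm := cap_mem hδD ha w' c hc
  obtain ⟨x₁, hx₁⟩ := exists_cap hδD hLD hbm w' hw'
  obtain ⟨x₂, hx₂⟩ := exists_cap hδD hND hcm t ht
  have hin : Cyc.RatEquiv (fun d => δ (i d)) k x₁ x₂ :=
    Comm.ratEquiv_comm hδD hLD hND ha w' w' v' t hw' hw' hv' ht x₁ x₂ (by rw [hx₁, hb]) (by rw [hx₂, hc])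
  have hβi : ∀ x, Cyc.c1CapFun δ N ⇑αi v x = AlgebraicCycle.map i (fun d => δ (i d)) δ b x := fun x => by
    by_cases hx : x ∈ Set.range ⇑i
    · obtain ⟨e, rfl⟩ := hx
      rw [Closed.map_apply_image, hb, ← hcapN, hmap]
    · rw [Closed.map_apply_of_not_mem i b hx]
      refine finsum_eq_zero_of_forall_eq_zero fun ζ => ?_
      by_cases hζ : ζ ∈ Set.range ⇑i
      · rw [show Cyc.secDivFun δ N ζ (v ζ) x = 0 from dif_neg fun h =>
          hx (h.1.mem_closed i.isClosedEmbedding.isClosed_range hζ), mul_zero]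
      · rw [hαi, restr_apply_not_mem α hζ, zero_mul]
  -- outside
  have hαom : αo ∈ Cyc.Zk X δ (k + 1 + 1) := restr_mem hα _
  have hs : ∀ (q : X → ℤ), (∀ x, q x ≠ 0 → αo x ≠ 0) →
      (∀ x, ∃ U : X.Opens, x ∈ U ∧ ((U : Set X) ∩ q.support).Finite) ∧
        (∀ n : K0.Sum.Idx q, δ n.1.1 = k + 1 + 1) ∧ ∀ n : K0.Sum.Idx q, n.1.1 ∉ Set.range ⇑i :=
    fun q hq => ⟨fun x => (Comm.finite_nhd αo x).imp fun U hU =>
        ⟨hU.1, hU.2.subset fun y hy => ⟨hy.1, hq y hy.2⟩⟩,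
      fun n => by by_contra h; exact hq _ (ne_of_gt n.1.2) (hαom _ h),
      fun n h => hq _ (ne_of_gt n.1.2) (restr_apply_not_mem α fun hc => hc h)⟩
  obtain ⟨f₁, z₁, o₁⟩ := hs (fun y => max (αo y) 0) fun x h h0 => h (by simp [h0])
  obtain ⟨f₂, z₂, o₂⟩ := hs (fun y => max (-αo y) 0) fun x h h0 => h (by simp [h0])
  obtain ⟨ρ₁, σ₁, γ₁, θ₁, eρ₁, eσ₁, eγ₁, eθ₁, r₁⟩ :=
    exists_family i hδ hL hN hD (Comm.lf_idx _ f₁) z₁ o₁ w hw v hv t ht
  obtain ⟨ρ₂, σ₂, γ₂, θ₂, eρ₂, eσ₂, eγ₂, eθ₂, r₂⟩ :=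
    exists_family i hδ hL hN hD (Comm.lf_idx _ f₂) z₂ o₂ w hw v hv t ht
  have hβ' : β = AlgebraicCycle.map i (fun d => δ (i d)) δ b + (ρ₁ - ρ₂) :=
    Function.locallyFinsuppWithin.ext fun x => by
    simp only [Function.locallyFinsuppWithin.coe_add, Function.locallyFinsuppWithin.coe_sub,
      Pi.add_apply, Pi.sub_apply]
    rw [hβ, ← restr_add_compl α (Set.range ⇑i), c1Cap_add, hβi, eρ₁, eρ₂]
    congr 1
    exact Comm.finsum_parts αo (fun ζ y => Cyc.secDivFun δ N ζ (v ζ) y)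
      (fun ζ y h => dif_neg fun h' => h h'.1) x
  have hg' : g = ⇑(c + (σ₁ - σ₂)) := funext fun d => by
    simp only [Function.locallyFinsuppWithin.coe_add, Function.locallyFinsuppWithin.coe_sub,
      Pi.add_apply, Pi.sub_apply, hg]
    rw [← restr_add_compl α (Set.range ⇑i), c1Cap_add, eσ₁, eσ₂, ← hαi, ← hαo]
    congr 1
    · rw [← hmap, hcapL, hc]
    · exact Comm.finsum_parts αo (fun ζ y => Cyc.secDivFun δ L ζ (Cyc.gysinChoice L s w ζ) y)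
        (fun ζ y h => dif_neg fun h' => h h'.1) (i d)
  have g₁ : ζ₁ = x₁ + (γ₁ - γ₂) := Function.locallyFinsuppWithin.ext fun d => by
    simp only [Function.locallyFinsuppWithin.coe_add, Function.locallyFinsuppWithin.coe_sub,
      Pi.add_apply, Pi.sub_apply]
    rw [h₁, hβ', c1Cap_add, Comm.c1Cap_sub_cycle, hcapL, hx₁, eγ₁, eγ₂]
  have g₂ : ζ₂ = x₂ + (θ₁ - θ₂) := Function.locallyFinsuppWithin.ext fun d => by
    simp only [Function.locallyFinsuppWithin.coe_add, Function.locallyFinsuppWithin.coe_sub,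
      Pi.add_apply, Pi.sub_apply]
    rw [h₂, hg', c1Cap_add, Comm.c1Cap_sub_cycle, hx₂, eθ₁, eθ₂]
  have h := Ord.ratEquivZero_add hin (Ord.ratEquivZero_add r₁ (Ord.ratEquivZero_neg hδD r₂))
  rw [Cyc.RatEquiv, g₁, g₂]
  rwa [show x₁ - x₂ + (γ₁ - θ₁ + -(γ₂ - θ₂)) = x₁ + (γ₁ - γ₂) - (x₂ + (θ₁ - θ₂)) by abel] at h

end Groth.Agent.Lib.Cyc.Gys.C1
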