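import Groth.Agent.Lib.Cyc.Gys.MulMap
import Groth.Agent.Lib.Cyc.C1K.Twist
import Groth.Agent.Lib.Cyc.C1K.Lines

/-!
# Multiplication by a section on the structure sheaf of a prime cycle
-/

set_option autoImplicit false
set_option linter.style.haveILetI false
universe u

open CategoryTheory CategoryTheory.Limits AlgebraicGeometry IsLocalRing

namespace Groth.Agent.Lib.Cyc.Gys.Prime

open Groth.Agent.Lib Groth.Agent.Lib.Cyc Groth.Agent.Lib.Cyc.Retr Groth.Agent.Lib.Cyc.Retr.Witness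
  Groth.Agent.Lib.Modules.StalkModule Groth.Agent.Lib.Cyc.C1K

variable {X D : Scheme.{u}} {i : D ⟶ X} {L : X.Modules} {s : L.presheaf.obj (Opposite.op ⊤)}
  (hL : PicF.IsInvertible L) {ξ : X}


local notation "O" => Cyc.closureStructureSheaf

include hL in
theorem exists_line (ξ : X) : Nonempty (Gen.Line ξ (CohB1.tensorMod (O ξ) L)) := by
  obtain ⟨t, ht, -⟩ := C1Indep.exists_free_gen hL ξ
  exact ⟨(C1K.Twist.exists_line hL _ (C1Indep.mk_ne_zero hL ξ ht)).choose⟩

include hL in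
/-- A section vanishing at `ξ` vanishes on the closure. -/
theorem mulS_eq_zero (h0 : (Submodule.Quotient.mk (L.presheaf.germ ⊤ ξ trivial s) : Cyc.secFibre L ξ) = 0) :
    MulMap.mulS L s (O ξ) = 0 := by
  obtain ⟨T⟩ := exists_line hL ξ
  refine Modules.Stalk.hom_ext_stalk fun y => ?_
  ext v
  show stalkMapₗ (MulMap.mulS L s (O ξ)) y v = stalkMapₗ (0 : O ξ ⟶ _) y v
  rw [stalkMapₗ_zero, LinearMap.zero_apply]
  by_cases hy : ξ ⤳ y
  · obtain ⟨t, f, ht, hs⟩ := MulMap.exists_coeff L s hL ξ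
    obtain ⟨E, hE⟩ := MulMap.exists_stalk L s hL ht hs (O ξ)
    have hf : f ∈ maximalIdeal (X.presheaf.stalk ξ) := by
      by_contra hu
      refine C1Indep.mk_ne_zero hL ξ ht ?_
      rw [hs, Submodule.Quotient.mk_smul] at h0
      exact (notMem_maximalIdeal.1 hu).smul_eq_zero.1 h0
    refine T.inj y hy ?_
    rw [map_zero, ← Additive.stalkMap_specializes (MulMap.mulS L s (O ξ)) hy v]
    refine E.injective ?_
    rw [hE, map_zero]
    exact smul_eq_zero_of_mem ξ hf _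
  · haveI := Witness.stalk_trivial_of_not_specializes hy
    rw [show v = (0 : (O ξ).presheaf.stalk y) from Subsingleton.elim (α := (O ξ).presheaf.stalk y) v 0]
    exact map_zero (stalkMapₗ (MulMap.mulS L s (O ξ)) y)

variable {δ : X → ℤ} {k : ℤ}

include hL in
/-- A section not vanishing at `ξ` has cokernel of cycle `div`. -/
theorem spec_of_ne_zero [IsLocallyNoetherian X] (hδ : Cyc.IsDimFun X δ) (hξ : δ ξ = k + 1)
    (h0 : (Submodule.Quotient.mk (L.presheaf.germ ⊤ ξ trivial s) : Cyc.secFibre L ξ) ≠ 0) :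
    Mono (MulMap.mulS L s (O ξ)) ∧ Cyc.CohLe δ k (cokernel (MulMap.mulS L s (O ξ))) ∧
      ∀ x, Cyc.sheafFun δ k (cokernel (MulMap.mulS L s (O ξ))) x =
        Cyc.secDivFun δ L ξ (Submodule.Quotient.mk (L.presheaf.germ ⊤ ξ trivial s)) x := by
  obtain ⟨T₀⟩ := exists_line hL ξ
  let φ := MulMap.mulS L s (O ξ)
  obtain ⟨t₁, f₁, ht₁, hs₁⟩ := MulMap.exists_coeff L s hL ξ
  obtain ⟨E₁, hE₁⟩ := MulMap.exists_stalk L s hL ht₁ hs₁ (O ξ)
  have hu : IsUnit f₁ := by
    by_contra hu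
    refine h0 ?_
    rw [hs₁, Submodule.Quotient.mk_eq_zero]
    exact Submodule.smul_mem_smul ((mem_maximalIdeal f₁).2 hu) trivial
  have hinjξ : Function.Injective (stalkMapₗ φ ξ) := fun a b h =>
    hu.smul_left_cancel.1 ((hE₁ a).symm.trans ((congrArg E₁ h).trans (hE₁ b)))
  have hbij : Function.Bijective (stalkMapₗ φ ξ) := ⟨hinjξ, fun v =>
    ⟨(↑hu.unit⁻¹ : X.presheaf.stalk ξ) • E₁ v, E₁.injective (by
      rw [map_smul, map_smul, hE₁, smul_smul, hu.val_inv_mul, one_smul])⟩⟩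
  haveI hmono : Mono φ := by
    rw [mono_iff_stalkMapₗ_injective]
    intro y
    by_cases hy : ξ ⤳ y
    · intro a b hab
      refine injective_specializes hy (hinjξ ?_)
      rw [Additive.stalkMap_specializes φ hy a, Additive.stalkMap_specializes φ hy b, hab]
    · haveI := Witness.stalk_trivial_of_not_specializes hy
      exact Function.injective_of_subsingleton _
  have hO := Devissage.Closure.isCoh_closureStructureSheaf (X := X) ξ
  have hM : Coh.IsCoh (CohB1.tensorMod (O ξ) L) := CurveBundle.Twist.isCoh hL hO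
  have hC : Cyc.CohLe δ k (cokernel φ) := Gen.cohLe_cokernel hδ hξ φ hO hM T₀.supp hbij.2
  refine ⟨hmono, hC, fun x => ?_⟩
  by_cases hx : δ x = k
  swap
  · rw [Cyc.sheafFun, if_neg hx, Cyc.secDivFun, dif_neg fun h => hx (by omega)]
  by_cases h : ξ ⤳ x
  swap
  · rw [Cyc.secDivFun, dif_neg fun hc => h hc.1, Cyc.sheafFun, if_pos hx]
    haveI := T₀.supp x h
    haveI : Subsingleton ((cokernel φ).presheaf.stalk x) :=
      ((epi_iff_stalkMapₗ_surjective (cokernel.π φ)).1 inferInstance x).subsingleton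
    rw [Module.length_eq_zero]
    rfl
  let T : Gen.Line ξ (CohB1.tensorMod (O ξ) L) :=
    { e := (LinearEquiv.ofBijective _ hbij).symm
      supp := T₀.supp
      inj := T₀.inj }
  have hTe : ∀ v, T.e (stalkMapₗ φ ξ v) = v := fun v =>
    (LinearEquiv.ofBijective _ hbij).symm_apply_apply v
  haveI := Gen.mono_quot T
  have hcomp : Gen.incl T ≫ φ = Gen.quot T := by
    refine Modules.Stalk.hom_ext_stalk fun y => ?_
    ext j
    show stalkMapₗ (Gen.incl T ≫ φ) y j = stalkMapₗ (Gen.quot T) y j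
    by_cases hy : ξ ⤳ y
    · refine T.inj y hy (T.e.injective ?_)
      rw [Gen.quot_stalk T hy j, stalkMapₗ_comp, LinearMap.comp_apply,
        ← Additive.stalkMap_specializes φ hy, hTe]
    · haveI := T.supp y hy
      exact Subsingleton.elim _ _
  have hJ := Gen.isCoh_J T hM
  obtain ⟨S, hS, ⟨e₁⟩, ⟨e₂⟩, ⟨e₃⟩⟩ := Lines.exists_shortExact_cokernel_comp (Gen.incl T) φ
  have hq : Cyc.CohLe δ k (cokernel (Gen.incl T ≫ φ)) := by rw [hcomp]; exact Gen.cohLe_quot T hδ hξ hM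
  have h₂ : Cyc.CohLe δ k S.X₂ :=
    K0.Cycles.cohLe_of_mono e₂.hom (CohBasics.Closure.isCoh_of_iso e₂.symm hq.1) hq
  have hsum := congrFun (K0.Cycles.sheafFun_shortExact k hδ hS h₂) x
  have hiso : ∀ {A B : X.Modules} (e : A ≅ B), Cyc.sheafFun δ k A x = Cyc.sheafFun δ k B x :=
    fun e => by simp only [Cyc.sheafFun, (stalkLinearEquiv e x).length_eq]
  rw [Pi.add_apply, hiso e₁, hiso e₂, hiso e₃] at hsum
  have hq' : Cyc.sheafFun δ k (cokernel (Gen.incl T ≫ φ)) x =
      Cyc.sheafFun δ k (cokernel (Gen.quot T)) x := by rw [hcomp]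
  rw [hq'] at hsum
  obtain ⟨t, f, ht, hs⟩ := MulMap.exists_coeff L s hL x
  obtain ⟨E, hE⟩ := MulMap.exists_stalk L s hL ht hs (O ξ)
  let fξ := X.presheaf.stalkSpecializes h f
  have hgerm : L.presheaf.stalkSpecializes h (L.presheaf.germ ⊤ x trivial s) =
      L.presheaf.germ ⊤ ξ trivial s :=
    ConcreteCategory.congr_hom (TopCat.Presheaf.germ_stalkSpecializes L.presheaf _ h) s
  have hsξ : L.presheaf.germ ⊤ ξ trivial s = fξ • L.presheaf.stalkSpecializes h t := by
    rw [← hgerm, hs, C1.stalkSpecializes_smul]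
  have hfu : IsUnit fξ := by
    by_contra hn
    refine h0 ?_
    rw [hsξ, Submodule.Quotient.mk_eq_zero]
    exact Submodule.smul_mem_smul ((mem_maximalIdeal fξ).2 hn) trivial
  let g := E.symm (oneAt ξ x)
  have hg : ∀ v : (CohB1.tensorMod (O ξ) L).presheaf.stalk x, ∃ r : X.presheaf.stalk x, r • g = v :=
    fun v => by
    obtain ⟨r, hr⟩ := exists_smul_oneAt ξ x (E v)
    exact ⟨r, E.injective (by rw [map_smul, E.apply_symm_apply, hr])⟩
  have hφ1 : stalkMapₗ φ x (oneAt ξ x) = f • g := E.injective (by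
    rw [hE, map_smul, E.apply_symm_apply])
  have hgc : T.e ((CohB1.tensorMod (O ξ) L).presheaf.stalkSpecializes h g) =
      ((hfu.unit⁻¹ : (X.presheaf.stalk ξ)ˣ) : X.presheaf.stalk ξ) • oneAt ξ ξ := by
    have h1 := congrArg (fun z => T.e ((CohB1.tensorMod (O ξ) L).presheaf.stalkSpecializes h z)) hφ1
    simp only at h1
    rw [← Additive.stalkMap_specializes φ h, hTe, specializes_oneAt, C1.stalkSpecializes_smul,
      map_smul] at h1
    rw [h1, smul_smul, hfu.val_inv_mul, one_smul]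
  have h1 := Gen.sheafFun_sub_eq T hδ hξ hM hx h (hfu.unit⁻¹).isUnit g hg hgc
  have hd : δ ξ ≤ δ x + 1 := by omega
  rw [Cyc.secDivFun, dif_pos ⟨h, by omega⟩,
    C1Indep.secOrdAt_eq hδ hL x ξ h hd _ h0 t ht fξ (by rw [hsξ]; rfl)]
  have hne : ∀ w : (X.presheaf.stalk ξ)ˣ, X.residue ξ (w : X.presheaf.stalk ξ) ≠ 0 := fun w =>
    (w.isUnit.map (X.residue ξ).hom).ne_zero
  have h2 := Ord.ordAt_mul hδ x ξ h hd _ _ (hne hfu.unit) (hne hfu.unit⁻¹)
  rw [← map_mul, Units.mul_inv, map_one] at h2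
  have h3 := Ord.ordAt_mul hδ x ξ h hd (1 : X.residueField ξ) 1 one_ne_zero one_ne_zero
  rw [mul_one] at h3
  rw [IsUnit.unit_spec] at h2
  show Cyc.sheafFun δ k (cokernel φ) x = _
  omega

end Groth.Agent.Lib.Cyc.Gys.Prime
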