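import Groth.Agent.Lib.Cyc.Gys.Class
import Groth.Agent.Lib.Cyc.Gys.Prime
import Groth.Agent.Lib.Cyc.C1K.Chow
import Groth.Agent.Lib.Cyc.FP.Rat
import Groth.Agent.Lib.TensorMod.Pullback

/-!
# The Gysin class of a module is its Gysin cycle
-/

set_option autoImplicit false
set_option linter.style.haveILetI false
universe u

open CategoryTheory CategoryTheory.Limits AlgebraicGeometry

namespace Groth.Agent.Lib.Cyc.Gys.Cycle

open Groth.Agent.Lib Groth.Agent.Lib.Cyc Groth.Agent.Lib.Modules.StalkModule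
  Groth.Agent.Lib.TensorMod.Basic Groth.Agent.Lib.Cyc.C1K Groth.Agent.Lib.Cyc.Gys.Class

variable {X D : Scheme.{u}} (i : D ⟶ X) [IsClosedImmersion i] [IsLocallyNoetherian X] {δ : X → ℤ}
  {L : X.Modules} {s : L.presheaf.obj (Opposite.op ⊤)} (hδ : Cyc.IsDimFun X δ)
  (hL : PicF.IsInvertible L) (hD : Cyc.IsZeroSchemeOf i L s) {k : ℤ}

omit [IsClosedImmersion i] [IsLocallyNoetherian X] in
theorem mem_range_iff (hD : Cyc.IsZeroSchemeOf i L s) (ξ : X) :
    ξ ∈ Set.range ⇑i ↔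
      (Submodule.Quotient.mk (L.presheaf.germ ⊤ ξ trivial s) : Cyc.secFibre L ξ) = 0 := by
  rw [hD.1]; rfl

omit [IsClosedImmersion i] [IsLocallyNoetherian X] in
theorem gysinChoice_ne_zero {w : (ξ : X) → Cyc.secFibre L ξ} (hw : ∀ ξ, w ξ ≠ 0) (ξ : X) :
    Cyc.gysinChoice L s w ξ ≠ 0 := by
  rw [Cyc.gysinChoice]
  split_ifs with h
  · exact h
  · exact hw ξ

variable (a : X → ℤ) (ha : ∀ x, a x ≠ 0 → δ x = k + 1)
  (hfin : ∀ x : X, ∃ U : X.Opens, x ∈ U ∧ ((U : Set X) ∩ a.support).Finite) (ha0 : ∀ x, 0 ≤ a x)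

include hfin in
theorem lf : Family.LF fun n : K0.Sum.Idx a => n.1.1 := fun x => by
  classical
  obtain ⟨U, hx, hfin⟩ := hfin x
  refine ⟨U, U.2, hx, ?_⟩
  have hS : {ζ : {ζ : X // 0 < a ζ} | ζ.1 ∈ U}.Finite :=
    (hfin.preimage Subtype.val_injective.injOn).subset fun ζ hζ => ⟨hζ, ne_of_gt ζ.2⟩
  refine ((hS.toFinset.sigma fun _ => Finset.univ).finite_toSet).subset ?_
  rintro n ⟨y, hy, hyU⟩
  exact Finset.mem_sigma.2 ⟨hS.mem_toFinset.2 ((specializes_iff_mem_closure.2 hy).mem_open U.2 hyU),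
    Finset.mem_univ _⟩

include hδ ha hfin ha0 in
theorem sheafFun_cycleSheaf (x : X) : Cyc.sheafFun δ (k + 1) (Cyc.cycleSheafPos a) x = a x := by
  by_cases hx : δ x = k + 1
  · rw [Cyc.sheafFun, if_pos hx, ((K0.Sum.cycleSheaf_spec hδ (k + 1) a ha hfin).2 x hx).1,
      ENat.toNat_coe, Int.toNat_of_nonneg (ha0 x)]
  · rw [Cyc.sheafFun, if_neg hx]
    by_contra h
    exact hx (ha x (Ne.symm h))

include hδ hL hD ha hfin ha0 in
/-- Cycles inside `D`. -/
theorem gys_inside (hin : ∀ x, a x ≠ 0 → x ∈ Set.range ⇑i) (w : (ξ : X) → Cyc.secFibre L ξ)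
    (hw : ∀ ξ, w ξ ≠ 0) :
    ∃ A B : D.Modules, Cyc.CohLe (fun d => δ (i d)) k A ∧ Cyc.CohLe (fun d => δ (i d)) k B ∧
      gys i δ L s (k + 1) (k - 1) (Cyc.cycleSheafPos a) =
        Cyc.toK0CohQuot (fun d => δ (i d)) (k + 1) (k - 1) A -
          Cyc.toK0CohQuot (fun d => δ (i d)) (k + 1) (k - 1) B ∧
      ∀ d, Cyc.sheafFun (fun d => δ (i d)) k A d - Cyc.sheafFun (fun d => δ (i d)) k B d =
        Cyc.c1CapFun δ L a (Cyc.gysinChoice L s w) (i d) := by
  haveI : IsLocallyNoetherian D := LocallyOfFiniteType.isLocallyNoetherian i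
  have hδD := Closed.isDimFun i hδ
  set P := Cyc.cycleSheafPos a with hPdef
  have hP : Cyc.CohLe δ (k + 1) P := (K0.Sum.cycleSheaf_spec hδ (k + 1) a ha hfin).1
  have h0 : MulMap.mulS L s P = 0 := by
    suffices h : MulMap.mulS L s (∐ fun n : K0.Sum.Idx a => Cyc.closureStructureSheaf n.1.1) = 0 from h
    refine Limits.Sigma.hom_ext _ _ fun n => ?_
    rw [comp_zero, MulMap.mulS_natural,
      Prime.mulS_eq_zero hL ((mem_range_iff i hD _).1 (hin _ (ne_of_gt n.1.2))), zero_comp]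
  haveI : IsIso (kernel.ι (MulMap.mulS L s P)) :=
    ⟨kernel.lift _ (𝟙 P) (by rw [h0, comp_zero]), by rw [← cancel_mono (kernel.ι _)]; simp, by simp⟩
  haveI : IsIso (cokernel.π (MulMap.mulS L s P)) :=
    ⟨cokernel.desc _ (𝟙 _) (by rw [h0, zero_comp]), by simp, by rw [← cancel_epi (cokernel.π _)]; simp⟩
  let eK : kernel (MulMap.mulS L s P) ≅ P := asIso (kernel.ι _)
  let eC : CohB1.tensorMod P L ≅ cokernel (MulMap.mulS L s P) := asIso (cokernel.π _)
  have hkP : Killed.IsKilled i P := (MulMap.killed_kernel L s hL hD P).of_epi i eK.hom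
  have hkT : Killed.IsKilled i (CohB1.tensorMod P L) :=
    (MulMap.killed_cokernel L s hL hD P).of_epi i eC.inv
  let pb := Scheme.Modules.pullback i
  have hL' := PicLoc.isInvertible_pullback i hL
  have hPD : Cyc.CohLe (fun d => δ (i d)) (k + 1) (pb.obj P) := Killed.cohLe_pull i hkP hP
  have hs := small_of_cohLe (s := s) hL hP
  obtain ⟨s', hs', hcap⟩ := Closed.exists_c1Cap i hδ hL _ (gysinChoice_ne_zero hw)
  obtain ⟨A, B, hA, hB, hAB, hfun⟩ :=
    Main.cl_twist_sub hL' hδD hPD s' (fun d _ => hs' d)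
  refine ⟨A, B, hA, hB, ?_, fun d => ?_⟩
  · rw [gys, ← hAB]
    congr 1
    · exact Retr.K0Tools.cl_iso (pb.mapIso eC.symm ≪≫ TensorMod.Pullback.pullbackTensorIso i P L)
        (Killed.cohLe_pull i (MulMap.killed_cokernel L s hL hD P) hs.2.2) (Main.cohLe_twist hL' hPD).1
    · exact Retr.K0Tools.cl_iso (pb.mapIso eK)
        (Killed.cohLe_pull i (MulMap.killed_kernel L s hL hD P) hs.2.1) hPD.1
  · rw [hfun]
    let α := FP.Rat.cycleOf (k + 1) hδD hPD
    have hmap : ⇑(AlgebraicCycle.map i (fun d => δ (i d)) δ α) = a := funext fun x => by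
      by_cases hx : x ∈ Set.range ⇑i
      · obtain ⟨e, rfl⟩ := hx
        rw [Closed.map_apply_image]
        show Cyc.sheafFun (fun d => δ (i d)) (k + 1) (pb.obj P) e = _
        rw [Killed.sheafFun_pull i hkP, sheafFun_cycleSheaf hδ a ha hfin ha0]
      · rw [Closed.map_apply_of_not_mem i α hx]
        by_contra h
        exact hx (hin x (Ne.symm h))
    rw [← hmap, hcap]
    rfl

include hδ hL hD ha hfin ha0 in
/-- Cycles meeting `D` properly. -/
theorem gys_outside (hout : ∀ x, a x ≠ 0 → x ∉ Set.range ⇑i) (w : (ξ : X) → Cyc.secFibre L ξ) :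
    ∃ A : D.Modules, Cyc.CohLe (fun d => δ (i d)) k A ∧
      gys i δ L s (k + 1) (k - 1) (Cyc.cycleSheafPos a) =
        Cyc.toK0CohQuot (fun d => δ (i d)) (k + 1) (k - 1) A ∧
      ∀ d, Cyc.sheafFun (fun d => δ (i d)) k A d =
        Cyc.c1CapFun δ L a (Cyc.gysinChoice L s w) (i d) := by
  classical
  let O : K0.Sum.Idx a → X.Modules := fun n => Cyc.closureStructureSheaf n.1.1
  let M : K0.Sum.Idx a → X.Modules := fun n => CohB1.tensorMod (O n) L
  let ξ : K0.Sum.Idx a → X := fun n => n.1.1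
  have hξ : ∀ n, δ (ξ n) = k + 1 := fun n => ha _ (ne_of_gt n.1.2)
  have hlf : Family.LF ξ := lf a hfin
  have h0 : ∀ n, (Submodule.Quotient.mk (L.presheaf.germ ⊤ (ξ n) trivial s) :
      Cyc.secFibre L (ξ n)) ≠ 0 := fun n hz =>
    hout _ (ne_of_gt n.1.2) ((mem_range_iff i hD _).2 hz)
  choose hm hc hdiv using fun n => Prime.spec_of_ne_zero hL hδ (hξ n) (h0 n)
  haveI : ∀ n, Mono (MulMap.mulS L s (O n)) := hm
  let g : ∀ n, O n ⟶ M n := fun n => MulMap.mulS L s (O n)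
  have hMn : Family.OnCl ξ M := fun n y hy => by
    haveI := Retr.Witness.stalk_trivial_of_not_specializes hy
    rw [← Module.length_eq_zero_iff (R := X.presheaf.stalk y), Main.length_twist hL,
      Module.length_eq_zero]
  obtain ⟨hmg, hCg, hfg⟩ := Family.sigma_map_spec hlf hδ g hMn hc
  haveI := hmg
  haveI := CurveBundle.Twist.isEquivalence hL
  let e : CohB1.tensorMod (∐ O) L ≅ ∐ M := PreservesCoproduct.iso (tensorBy L) O
  have he : MulMap.mulS L s (∐ O) = Limits.Sigma.map g ≫ e.inv := by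
    refine Limits.Sigma.hom_ext _ _ fun n => ?_
    rw [MulMap.mulS_natural, Limits.Sigma.ι_map_assoc]
    congr 1
    show (tensorBy L).map (Limits.Sigma.ι O n) = _
    rw [show e.inv = sigmaComparison (tensorBy L) O from PreservesCoproduct.inv_hom (tensorBy L) O]
    exact (ι_comp_sigmaComparison (tensorBy L) O n).symm
  haveI : Mono (MulMap.mulS L s (∐ O)) := by rw [he]; infer_instance
  have hKz : IsZero (kernel (MulMap.mulS L s (Cyc.cycleSheafPos a))) :=
    isZero_kernel_of_mono (MulMap.mulS L s (∐ O))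
  let eC : cokernel (MulMap.mulS L s (Cyc.cycleSheafPos a)) ≅ cokernel (Limits.Sigma.map g) :=
    cokernelIsoOfEq he ≪≫ cokernelCompIsIso (Limits.Sigma.map g) e.inv
  have hkC := MulMap.killed_cokernel L s hL hD (Cyc.cycleSheafPos a)
  have hC : Cyc.CohLe δ k (cokernel (MulMap.mulS L s (Cyc.cycleSheafPos a))) :=
    K0.Cycles.cohLe_of_mono eC.hom (CohBasics.Closure.isCoh_of_iso eC.symm hCg.1) hCg
  refine ⟨_, Killed.cohLe_pull i hkC hC, ?_, fun d => ?_⟩
  · rw [gys, clD_of_isZero i hKz, sub_zero]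
  · rw [Killed.sheafFun_pull i hkC,
      show Cyc.sheafFun δ k (cokernel (MulMap.mulS L s (Cyc.cycleSheafPos a))) (i d) =
        Cyc.sheafFun δ k (cokernel (Limits.Sigma.map g)) (i d) by
          simp only [Cyc.sheafFun, (stalkLinearEquiv eC (i d)).length_eq], hfg]
    refine Eq.trans (finsum_congr fun n => (hdiv n (i d)).trans ?_)
      (Main.finsum_idx a (fun ζ => Cyc.secDivFun δ L ζ (Cyc.gysinChoice L s w ζ) (i d)) ha0 ?_)
    · dsimp only
      rw [Cyc.gysinChoice, if_pos (h0 n)]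
    · refine C1Indep.finite_support_mul (FP.Rat.cycleOf (k + 1) hδ
        (K0.Sum.cycleSheaf_spec hδ (k + 1) a ha hfin).1)
        (fun ζ => Cyc.secDivFun δ L ζ (Cyc.gysinChoice L s w ζ) (i d)) (i d) (fun ζ hζ => dif_neg fun hc => hζ hc.1)
        |>.subset fun ζ hζ => ?_
      show Cyc.sheafFun δ (k + 1) (Cyc.cycleSheafPos a) ζ * _ ≠ 0
      rwa [sheafFun_cycleSheaf hδ a ha hfin ha0]

include hδ hL hD in
/-- `G(F) = [A] - [B]` with the Gysin cycle as cycle. -/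
theorem exists_gys {F : X.Modules} (hF : Cyc.CohLe δ (k + 1) F) (w : (ξ : X) → Cyc.secFibre L ξ)
    (hw : ∀ ξ, w ξ ≠ 0) :
    ∃ A B : D.Modules, Cyc.CohLe (fun d => δ (i d)) k A ∧ Cyc.CohLe (fun d => δ (i d)) k B ∧
      gys i δ L s (k + 1) (k - 1) F =
        Cyc.toK0CohQuot (fun d => δ (i d)) (k + 1) (k - 1) A -
          Cyc.toK0CohQuot (fun d => δ (i d)) (k + 1) (k - 1) B ∧
      ∀ d, Cyc.sheafFun (fun d => δ (i d)) k A d - Cyc.sheafFun (fun d => δ (i d)) k B d =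
        Cyc.c1CapFun δ L (Cyc.sheafFun δ (k + 1) F) (Cyc.gysinChoice L s w) (i d) := by
  classical
  haveI : IsLocallyNoetherian D := LocallyOfFiniteType.isLocallyNoetherian i
  set a := Cyc.sheafFun δ (k + 1) F with ha_def
  have ha0 : ∀ x, 0 ≤ a x := fun x => by
    simp only [ha_def, Cyc.sheafFun]
    split_ifs <;> positivity
  have ha : ∀ x, a x ≠ 0 → δ x = k + 1 := fun x h => by
    by_contra hne
    exact h (if_neg hne)
  let α := FP.Rat.cycleOf (k + 1) hδ hF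
  have hfin : ∀ x : X, ∃ U : X.Opens, x ∈ U ∧ ((U : Set X) ∩ a.support).Finite := fun x => by
    obtain ⟨U, hU, hf⟩ := α.supportLocallyFiniteWithinDomain' x trivial
    obtain ⟨V, hVU, hV, hxV⟩ := mem_nhds_iff.1 hU
    exact ⟨⟨V, hV⟩, hxV, hf.subset (Set.inter_subset_inter_left _ hVU)⟩
  let ai : X → ℤ := fun x => if x ∈ Set.range ⇑i then a x else 0
  let ao : X → ℤ := fun x => if x ∈ Set.range ⇑i then 0 else a x
  have hsub : ∀ b : X → ℤ, (∀ x, b x ≠ 0 → a x ≠ 0) →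
      ∀ x : X, ∃ U : X.Opens, x ∈ U ∧ ((U : Set X) ∩ b.support).Finite := fun b hb x => by
    obtain ⟨U, hx, hf⟩ := hfin x
    exact ⟨U, hx, hf.subset fun y hy => ⟨hy.1, hb y hy.2⟩⟩
  have hai : ∀ x, ai x ≠ 0 → a x ≠ 0 := fun x => by simp only [ai]; split_ifs <;> simp
  have hao : ∀ x, ao x ≠ 0 → a x ≠ 0 := fun x => by simp only [ao]; split_ifs <;> simp
  have hai0 : ∀ x, 0 ≤ ai x := fun x => by simp only [ai]; split_ifs <;> simp [ha0]
  have hao0 : ∀ x, 0 ≤ ao x := fun x => by simp only [ao]; split_ifs <;> simp [ha0]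
  have hai' : ∀ x, ai x ≠ 0 → δ x = k + 1 := fun x h => ha x (hai x h)
  have hao' : ∀ x, ao x ≠ 0 → δ x = k + 1 := fun x h => ha x (hao x h)
  obtain ⟨Ai, Bi, hAi, hBi, ei, fi⟩ := gys_inside i hδ hL hD ai hai' (hsub ai hai) hai0
    (fun x h => by by_contra hx; exact h (if_neg hx)) w hw
  obtain ⟨Ao, hAo, eo, fo⟩ := gys_outside i hδ hL hD ao hao' (hsub ao hao) hao0
    (fun x h hx => h (if_pos hx)) w
  have hPi := (K0.Sum.cycleSheaf_spec hδ (k + 1) ai hai' (hsub ai hai)).1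
  have hPo := (K0.Sum.cycleSheaf_spec hδ (k + 1) ao hao' (hsub ao hao)).1
  obtain ⟨ψ, hψ, hinj, -⟩ := K0.Cycles.main (k + 1) hδ
  have hb := K0.Cycles.cohLe_biprod hPi hPo
  obtain ⟨G, hG⟩ := exists_hom i hδ hL hD k
  have hcl : Cyc.toK0CohQuot δ (k + 1) (k + 1 - 1) F =
      Cyc.toK0CohQuot δ (k + 1) (k + 1 - 1) (Cyc.cycleSheafPos ai ⊞ Cyc.cycleSheafPos ao) := hinj (by
    rw [hψ _ hF, hψ _ hb]
    funext x
    rw [Chow.sheafFun_biprod hδ hPi hPo, sheafFun_cycleSheaf hδ ai hai' (hsub ai hai) hai0,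
      sheafFun_cycleSheaf hδ ao hao' (hsub ao hao) hao0]
    simp only [ai, ao]
    split_ifs <;> simp [ha_def])
  rw [add_sub_cancel_right] at hcl
  have hg : gys i δ L s (k + 1) (k - 1) F =
      gys i δ L s (k + 1) (k - 1) (Cyc.cycleSheafPos ai) +
        gys i δ L s (k + 1) (k - 1) (Cyc.cycleSheafPos ao) := by
    rw [← hG F hF, hcl, hG _ hb]
    exact gys_add i hL hD (a := k + 1) (b := k - 1) (δ := δ) (s := s)
      (S := ShortComplex.mk (biprod.inl : Cyc.cycleSheafPos ai ⟶ Cyc.cycleSheafPos ai ⊞ Cyc.cycleSheafPos ao)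
        (biprod.snd : Cyc.cycleSheafPos ai ⊞ Cyc.cycleSheafPos ao ⟶ Cyc.cycleSheafPos ao) biprod.inl_snd)
      (ShortComplex.Splitting.ofHasBinaryBiproduct (Cyc.cycleSheafPos ai) (Cyc.cycleSheafPos ao)).shortExact
      (small_of_cohLe (s := s) hL hPi) (small_of_cohLe (s := s) hL hb) (small_of_cohLe (s := s) hL hPo)
  have hAb := K0.Cycles.cohLe_biprod hAi hAo
  have hrel := K0.Cycles.mk_rel (fun d => δ (i d)) (k + 1) (k - 1)
    (ShortComplex.Splitting.ofHasBinaryBiproduct Ai Ao).shortExact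
    (Retr.K0Tools.cohLe_mono (by omega) hAi) (Retr.K0Tools.cohLe_mono (by omega) hAb)
    (Retr.K0Tools.cohLe_mono (by omega) hAo)
  dsimp only at hrel
  refine ⟨Ai ⊞ Ao, Bi, hAb, hBi, ?_, fun d => ?_⟩
  · rw [hg, ei, eo, hrel]
    abel
  · rw [Chow.sheafFun_biprod (Closed.isDimFun i hδ) hAi hAo, fo, add_sub_right_comm, fi]
    simp only [Cyc.c1CapFun]
    have hf : ∀ b : X → ℤ, (∀ x, b x ≠ 0 → a x ≠ 0) → (Function.support fun ξ =>
        b ξ * Cyc.secDivFun δ L ξ (Cyc.gysinChoice L s w ξ) (i d)).Finite := fun b hb =>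
      (C1Indep.finite_support_mul α (fun ξ => Cyc.secDivFun δ L ξ (Cyc.gysinChoice L s w ξ) (i d))
        (i d) fun ξ hξ => dif_neg fun hc => hξ hc.1).subset fun ξ hξ => by
          have h1 := left_ne_zero_of_mul hξ
          exact mul_ne_zero (hb ξ h1) (right_ne_zero_of_mul hξ)
    rw [← finsum_add_distrib (hf ai hai) (hf ao hao)]
    refine finsum_congr fun ξ => ?_
    simp only [ai, ao]
    split_ifs <;> ring

end Groth.Agent.Lib.Cyc.Gys.Cycle
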