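import Groth.Agent.Lib.Cyc.Gys.Koszul
import Groth.Agent.Lib.Cyc.Gys.Cycle
import Groth.Agent.Lib.Cyc.CH.SquareOps
import Groth.Agent.Lib.Cyc.CH.Gysin
import Groth.Agent.Lib.Cyc.CH.Comm
import Groth.Agent.Lib.Cyc.Gys.C1
import Groth.Agent.Lib.Cyc.C1K.Chow

/-!
# The Gysin maps of two sections commute
-/

set_option autoImplicit false
set_option linter.style.haveILetI false
universe u

open CategoryTheory CategoryTheory.Limits AlgebraicGeometry
open scoped TensorProduct

noncomputable section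

namespace Groth.Agent.Lib.Cyc.Gys.Commute

open Groth.Agent.Lib Groth.Agent.Lib.Cyc Groth.Agent.Lib.Modules.StalkModule
  Groth.Agent.Lib.TensorMod.Basic Groth.Agent.Lib.Cyc.C1K Groth.Agent.Lib.Cyc.CH

section Killed

variable {X D : Scheme.{u}} (i : D ⟶ X)

theorem killed_twist {M N : X.Modules} (hN : PicF.IsInvertible N) (h : Killed.IsKilled i M) :
    Killed.IsKilled i (CohB1.tensorMod M N) where
  off x hx := by
    haveI := h.off x hx
    rw [← Module.length_eq_zero_iff (R := X.presheaf.stalk x), Main.length_twist hN, Module.length_eq_zero]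
  smul d c hc a := by
    let e := (stalkLinearEquiv (comm M N) (i d)).trans (Snapper.Twist.exists_stalkEquiv_twist hN M (i d)).some
    exact e.injective (by rw [map_smul, map_zero]; exact h.smul d c hc _)

variable [IsClosedImmersion i]

/-- Restriction preserves kernels between killed modules. -/
theorem nonempty_kernel_pullback {A B : X.Modules} (φ : A ⟶ B) (hA : Killed.IsKilled i A)
    (hB : Killed.IsKilled i B) :
    Nonempty ((Scheme.Modules.pullback i).obj (kernel φ) ≅ kernel ((Scheme.Modules.pullback i).map φ)) := by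
  let adj := Scheme.Modules.pullbackPushforwardAdjunction i
  haveI iA := Killed.isIso_unit i hA
  haveI iB := Killed.isIso_unit i hB
  haveI := Dev.SchemeCase.isIso_counit i (kernel ((Scheme.Modules.pullback i).map φ))
  haveI : PreservesLimitsOfSize.{0, 0} (Scheme.Modules.pushforward i) :=
    adj.rightAdjoint_preservesLimits
  let e : kernel φ ≅ (Scheme.Modules.pushforward i).obj (kernel ((Scheme.Modules.pullback i).map φ)) :=
    kernel.mapIso φ ((Scheme.Modules.pushforward i).map ((Scheme.Modules.pullback i).map φ))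
        (@asIso _ _ _ _ _ iA) (@asIso _ _ _ _ _ iB) (adj.unit.naturality φ) ≪≫
      (PreservesKernel.iso (Scheme.Modules.pushforward i) _).symm
  exact ⟨(Scheme.Modules.pullback i).mapIso e ≪≫ asIso (adj.counit.app _)⟩

/-- Restriction does not enlarge supports. -/
theorem cohLe_pullback {δ : X → ℤ} {a : ℤ} {A : X.Modules} (hA : Cyc.CohLe δ a A) :
    Cyc.CohLe (fun d => δ (i d)) a ((Scheme.Modules.pullback i).obj A) :=
  ⟨FP.Stalk.isCoh_pullback i hA.1, fun d hd => hA.2 (i d) (by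
    letI : Algebra (X.presheaf.stalk (i d)) (D.presheaf.stalk d) := (i.stalkMap d).hom.toAlgebra
    by_contra h
    haveI := not_nontrivial_iff_subsingleton.1 h
    let e := (asIso ((DerivedOX.PullbackStalk.comparison i d).app A)).toLinearEquiv
    have hz : ∀ z : (D.presheaf.stalk d) ⊗[X.presheaf.stalk (i d)] A.presheaf.stalk (i d), z = 0 := by
      intro z
      induction z using TensorProduct.induction_on with
      | zero => rfl
      | tmul p v => rw [Subsingleton.elim v 0, TensorProduct.tmul_zero]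
      | add p q hp hq => rw [hp, hq, add_zero]
    refine not_subsingleton_iff_nontrivial.2 hd ⟨fun a b => e.symm.injective ?_⟩
    exact (hz (e.symm a)).trans (hz (e.symm b)).symm)⟩

end Killed

section Transport

variable {E : Scheme.{u}}

/-- Transport along equal dimension functions. -/
def cast {δ₁ δ₂ : E → ℤ} (e : δ₁ = δ₂) : Tot E δ₁ →+ Tot E δ₂ := by
  subst e
  exact AddMonoidHom.id _

theorem cast_cls {δ₁ δ₂ : E → ℤ} (e : δ₁ = δ₂) {k : ℤ} {α : AlgebraicCycle E ℤ} (hα : α ∈ Cyc.Zk E δ₁ k)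
    (hα' : α ∈ Cyc.Zk E δ₂ k) : cast e (cls δ₁ k α hα) = cls δ₂ k α hα' := by
  subst e
  rfl

theorem cast_cast {δ₁ δ₂ : E → ℤ} (e : δ₁ = δ₂) (e' : δ₂ = δ₁) (x : Tot E δ₁) :
    cast e' (cast e x) = x := by
  subst e
  rfl

theorem cast_c1 [IsLocallyNoetherian E] {δ₁ δ₂ : E → ℤ} (e : δ₁ = δ₂) (h₁ : Cyc.IsDimFun E δ₁)
    (h₂ : Cyc.IsDimFun E δ₂) {L : E.Modules} (hL : PicF.IsInvertible L) (x : Tot E δ₁) :
    cast e (c1 δ₁ h₁ hL x) = c1 δ₂ h₂ hL (cast e x) := by
  subst e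
  rfl

end Transport

section Inside

variable {X D : Scheme.{u}} [IsLocallyNoetherian X] [IsLocallyNoetherian D] (i : D ⟶ X)
  [IsClosedImmersion i] {δ : X → ℤ} (hδ : Cyc.IsDimFun X δ) {L : X.Modules}
  (hL : PicF.IsInvertible L) {s : L.presheaf.obj (Opposite.op ⊤)} (hD : Cyc.IsZeroSchemeOf i L s)
  {w : (ξ : X) → Cyc.secFibre L ξ} (hw : ∀ ξ, w ξ ≠ 0)

/-- The self-intersection formula. -/
theorem gys_push_self {δD : D → ℤ} (e : δD = fun d => δ (i d)) (hδD : Cyc.IsDimFun D δD)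
    (hc : Cyc.DeltaCompat i δD δ) (y : Tot D δD) :
    gys i hδ hL hD hw (push hδD hδ i hc y) =
      c1 (fun d => δ (i d)) (Gys.Closed.isDimFun i hδ) (PicLoc.isInvertible_pullback i hL) (cast e y) := by
  subst e
  refine DFunLike.congr_fun (hom_ext (A := (gys i hδ hL hD hw).comp (push hδD hδ i hc))
    (B := AddMonoidHom.comp (c1 (fun d => δ (i d)) (Gys.Closed.isDimFun i hδ)
      (PicLoc.isInvertible_pullback i hL)) (cast rfl)) fun k α hα => ?_) y
  rw [AddMonoidHom.comp_apply, AddMonoidHom.comp_apply, cast_cls rfl hα hα,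
    push_cls hδD hδ i hc hα rfl (map_mem i hα)]
  obtain ⟨γ, hγ, eγ⟩ := exists_gys_cycle i hδ hL (s := s) hw (map_mem (δY := δ) i hα)
  obtain ⟨s', hs', hcap⟩ := Gys.Closed.exists_c1Cap i hδ hL _ (Gys.Cycle.gysinChoice_ne_zero (s := s) hw)
  rw [gys_cls i hδ hL hD hw (map_mem i hα) rfl hγ eγ]
  exact (c1_cls _ (Gys.Closed.isDimFun i hδ) (PicLoc.isInvertible_pullback i hL) hα rfl hγ s' hs'
    (funext fun d => (eγ d).trans (hcap α d))).symm

end Inside

section Outside

variable {X D : Scheme.{u}} (i : D ⟶ X) [IsClosedImmersion i] [IsLocallyNoetherian X] {δ : X → ℤ}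
  {L : X.Modules} {s : L.presheaf.obj (Opposite.op ⊤)} (hδ : Cyc.IsDimFun X δ)
  (hL : PicF.IsInvertible L) (hD : Cyc.IsZeroSchemeOf i L s) {k : ℤ} (a : X → ℤ)
  (ha : ∀ x, a x ≠ 0 → δ x = k + 1)
  (hfin : ∀ x : X, ∃ U : X.Opens, x ∈ U ∧ ((U : Set X) ∩ a.support).Finite) (ha0 : ∀ x, 0 ≤ a x)

include hδ hL hD ha hfin ha0 in
/-- A cycle meeting `D` properly: multiplication is injective and its cokernel carries the Gysin cycle. -/
theorem outside_spec (hout : ∀ x, a x ≠ 0 → x ∉ Set.range ⇑i) (w : (ξ : X) → Cyc.secFibre L ξ) :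
    Mono (MulMap.mulS L s (Cyc.cycleSheafPos a)) ∧
      Cyc.CohLe δ k (cokernel (MulMap.mulS L s (Cyc.cycleSheafPos a))) ∧
      ∀ d, Cyc.sheafFun (fun d => δ (i d)) k
          ((Scheme.Modules.pullback i).obj (cokernel (MulMap.mulS L s (Cyc.cycleSheafPos a)))) d =
        Cyc.c1CapFun δ L a (Cyc.gysinChoice L s w) (i d) := by
  classical
  let O : K0.Sum.Idx a → X.Modules := fun n => Cyc.closureStructureSheaf n.1.1
  let M : K0.Sum.Idx a → X.Modules := fun n => CohB1.tensorMod (O n) L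
  let ξ : K0.Sum.Idx a → X := fun n => n.1.1
  have hξ : ∀ n, δ (ξ n) = k + 1 := fun n => ha _ (ne_of_gt n.1.2)
  have hlf : Family.LF ξ := Cycle.lf a hfin
  have h0 : ∀ n, (Submodule.Quotient.mk (L.presheaf.germ ⊤ (ξ n) trivial s) :
      Cyc.secFibre L (ξ n)) ≠ 0 := fun n hz =>
    hout _ (ne_of_gt n.1.2) ((Cycle.mem_range_iff i hD _).2 hz)
  choose hm hc hdiv using fun n => Prime.spec_of_ne_zero hL hδ (hξ n) (h0 n)
  haveI : ∀ n, Mono (MulMap.mulS L s (O n)) := hm
  let g : ∀ n, O n ⟶ M n := fun n => MulMap.mulS L s (O n)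
  have hMn : Family.OnCl ξ M := fun n y hy => by
    haveI := Retr.Witness.stalk_trivial_of_not_specializes hy
    rw [← Module.length_eq_zero_iff (R := X.presheaf.stalk y), Main.length_twist hL,
      Module.length_eq_zero]
  obtain ⟨hmg, hCg, hfg⟩ := Family.sigma_map_spec hlf hδ g hMn hc
  haveI := hmg
  haveI := CurveBundle.Twist.isEquivalence hL
  let e : CohB1.tensorMod (∐ O) L ≅ ∐ M := PreservesCoproduct.iso (tensorBy L) O
  have he : MulMap.mulS L s (∐ O) = Limits.Sigma.map g ≫ e.inv := by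
    refine Limits.Sigma.hom_ext _ _ fun n => ?_
    rw [MulMap.mulS_natural, Limits.Sigma.ι_map_assoc]
    congr 1
    show (tensorBy L).map (Limits.Sigma.ι O n) = _
    rw [show e.inv = sigmaComparison (tensorBy L) O from PreservesCoproduct.inv_hom (tensorBy L) O]
    exact (ι_comp_sigmaComparison (tensorBy L) O n).symm
  haveI hmono : Mono (MulMap.mulS L s (∐ O)) := by rw [he]; infer_instance
  let eC : cokernel (MulMap.mulS L s (Cyc.cycleSheafPos a)) ≅ cokernel (Limits.Sigma.map g) :=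
    cokernelIsoOfEq he ≪≫ cokernelCompIsIso (Limits.Sigma.map g) e.inv
  have hkC := MulMap.killed_cokernel L s hL hD (Cyc.cycleSheafPos a)
  have hC : Cyc.CohLe δ k (cokernel (MulMap.mulS L s (Cyc.cycleSheafPos a))) :=
    K0.Cycles.cohLe_of_mono eC.hom (CohBasics.Closure.isCoh_of_iso eC.symm hCg.1) hCg
  refine ⟨hmono, hC, fun d => ?_⟩
  rw [Killed.sheafFun_pull i hkC,
    show Cyc.sheafFun δ k (cokernel (MulMap.mulS L s (Cyc.cycleSheafPos a))) (i d) =
      Cyc.sheafFun δ k (cokernel (Limits.Sigma.map g)) (i d) by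
        simp only [Cyc.sheafFun, (stalkLinearEquiv eC (i d)).length_eq], hfg]
  refine Eq.trans (finsum_congr fun n => (hdiv n (i d)).trans ?_)
    (Main.finsum_idx a (fun ζ => Cyc.secDivFun δ L ζ (Cyc.gysinChoice L s w ζ) (i d)) ha0 ?_)
  · dsimp only
    rw [Cyc.gysinChoice, if_pos (h0 n)]
  · refine C1Indep.finite_support_mul (FP.Rat.cycleOf (k + 1) hδ
      (K0.Sum.cycleSheaf_spec hδ (k + 1) a ha hfin).1)
      (fun ζ => Cyc.secDivFun δ L ζ (Cyc.gysinChoice L s w ζ) (i d)) (i d) (fun ζ hζ => dif_neg fun hc => hζ hc.1)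
      |>.subset fun ζ hζ => ?_
    show Cyc.sheafFun δ (k + 1) (Cyc.cycleSheafPos a) ζ * _ ≠ 0
    rwa [Cycle.sheafFun_cycleSheaf hδ a ha hfin ha0]

/-- Injectivity of multiplication passes to twists. -/
theorem mono_twist {L : X.Modules} (s : L.presheaf.obj (Opposite.op ⊤)) {L' : X.Modules} {s' : L'.presheaf.obj (Opposite.op ⊤)} (hL : PicF.IsInvertible L)
    (hL' : PicF.IsInvertible L') (F : X.Modules) [Mono (MulMap.mulS L' s' F)] :
    Mono (MulMap.mulS L' s' (CohB1.tensorMod F L)) := by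
  rw [mono_iff_stalkMapₗ_injective]
  intro x
  obtain ⟨_, ⟨T⟩⟩ := Koszul.exists_triv L s hL x
  obtain ⟨b, ⟨T'⟩⟩ := Koszul.exists_triv L' s' hL' x
  refine (injective_iff_map_eq_zero _).2 fun m hm => ?_
  have h1 : b • m = 0 := by rw [← T'.mul, hm, map_zero]
  refine (T.e F).injective (((mono_iff_stalkMapₗ_injective (MulMap.mulS L' s' F)).1 inferInstance x) ?_)
  refine (T'.e F).injective ?_
  rw [T'.mul, ← map_smul, h1]
  simp

end Outside

section Second

variable {X D D' E : Scheme.{u}} [IsLocallyNoetherian X] (i : D ⟶ X) [IsClosedImmersion i] (i' : D' ⟶ X)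
  [IsClosedImmersion i'] (j : E ⟶ D) [IsClosedImmersion j] (q : E ⟶ D') (hsq : IsPullback j q i i')
  {δ : X → ℤ} (hδ : Cyc.IsDimFun X δ) {L' : X.Modules} (hL' : PicF.IsInvertible L')
  {s' : L'.presheaf.obj (Opposite.op ⊤)} (hD' : Cyc.IsZeroSchemeOf i' L' s')
  {σ' : ((Scheme.Modules.pullback i).obj L').presheaf.obj (Opposite.op ⊤)}
  (hσ' : Cyc.IsZeroSchemeOf j ((Scheme.Modules.pullback i).obj L') σ')

include hsq hδ hL' hD' hσ' in
/-- The second Gysin class of a module killed by `D`, computed on `X`. -/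
theorem exists_second {m : ℤ} {M : X.Modules} (hM : Cyc.CohLe δ (m + 1) M) (hk : Killed.IsKilled i M)
    (k₀ : E ⟶ X) [IsClosedImmersion k₀] (e₀ : j ≫ i = k₀)
    (w : (d : D) → Cyc.secFibre ((Scheme.Modules.pullback i).obj L') d) (hw : ∀ d, w d ≠ 0) :
    ∃ A B : E.Modules, Cyc.CohLe (fun z => δ (k₀ z)) m A ∧ Cyc.CohLe (fun z => δ (k₀ z)) m B ∧
      Cyc.toK0CohQuot (fun z => δ (k₀ z)) (m + 1) (m - 1) A -
          Cyc.toK0CohQuot (fun z => δ (k₀ z)) (m + 1) (m - 1) B =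
        Killed.clD k₀ δ (m + 1) (m - 1) (cokernel (MulMap.mulS L' s' M)) -
          Killed.clD k₀ δ (m + 1) (m - 1) (kernel (MulMap.mulS L' s' M)) ∧
      ∀ z, Cyc.sheafFun (fun z => δ (k₀ z)) m A z - Cyc.sheafFun (fun z => δ (k₀ z)) m B z =
        Cyc.c1CapFun (fun d => δ (i d)) ((Scheme.Modules.pullback i).obj L')
          (Cyc.sheafFun (fun d => δ (i d)) (m + 1) ((Scheme.Modules.pullback i).obj M))
          (Cyc.gysinChoice ((Scheme.Modules.pullback i).obj L') σ' w) (j z) := by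
  subst e₀
  haveI : IsLocallyNoetherian D := LocallyOfFiniteType.isLocallyNoetherian i
  haveI : IsLocallyNoetherian E := LocallyOfFiniteType.isLocallyNoetherian j
  have hδD := Closed.isDimFun i hδ
  have hLD := PicLoc.isInvertible_pullback i hL'
  have hMD := Killed.cohLe_pull i hk hM
  obtain ⟨A, B, hA, hB, e, f⟩ := Cycle.exists_gys j hδD hLD hσ' hMD w hw
  refine ⟨A, B, hA, hB, e.symm.trans ?_, f⟩
  obtain ⟨ε, hε, hε'⟩ : ∃ (ε : E ⟶ pullback i i') (_ : IsIso ε), ε ≫ pullback.fst i i' = j :=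
    ⟨hsq.isoPullback.hom, inferInstance, hsq.isoPullback_hom_fst⟩
  have hfst := isZeroSchemeOf_iso j (pullback.fst i i') ε hε' hσ'
  have hs := Class.small_of_cohLe (s := s') hL' hM
  have hsD := Class.small_of_cohLe (s := σ') hLD hMD
  have kT := killed_twist i hL' hk
  let pb := Scheme.Modules.pullback i
  haveI : PreservesColimitsOfSize.{0, 0} pb :=
    (Scheme.Modules.pullbackPushforwardAdjunction i).leftAdjoint_preservesColimits
  have hS := PullMul.sameCoeff i i' hL' hD' hfst M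
  let eC : pb.obj (cokernel (MulMap.mulS L' s' M)) ≅
      cokernel (MulMap.mulS (pb.obj L') σ' (pb.obj M)) :=
    PreservesCokernel.iso pb _ ≪≫
      (cokernelCompIsIso _ (TensorMod.Pullback.pullbackTensorIso i M L').hom).symm ≪≫
      hS.nonempty_cokernelIso.some
  let eK : pb.obj (kernel (MulMap.mulS L' s' M)) ≅ kernel (MulMap.mulS (pb.obj L') σ' (pb.obj M)) :=
    (nonempty_kernel_pullback i (MulMap.mulS L' s' M) hk kT).some ≪≫
      (kernelCompMono _ (TensorMod.Pullback.pullbackTensorIso i M L').hom).symm ≪≫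
      hS.nonempty_kernelIso.some
  show Killed.clD j (fun d => δ (i d)) (m + 1) (m - 1) (cokernel (MulMap.mulS (pb.obj L') σ' (pb.obj M))) -
    Killed.clD j (fun d => δ (i d)) (m + 1) (m - 1) (kernel (MulMap.mulS (pb.obj L') σ' (pb.obj M))) = _
  congr 1
  · exact Retr.K0Tools.cl_iso (a := m + 1) (b := m - 1)
      ((Scheme.Modules.pullback j).mapIso eC.symm ≪≫
        (Scheme.Modules.pullbackComp j i).app (cokernel (MulMap.mulS L' s' M)))
      (Killed.cohLe_pull j (MulMap.killed_cokernel (pb.obj L') σ' hLD hσ' _) hsD.2.2)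
      (FP.Stalk.isCoh_pullback (j ≫ i) hs.2.2.1)
  · exact Retr.K0Tools.cl_iso (a := m + 1) (b := m - 1)
      ((Scheme.Modules.pullback j).mapIso eK.symm ≪≫
        (Scheme.Modules.pullbackComp j i).app (kernel (MulMap.mulS L' s' M)))
      (Killed.cohLe_pull j (MulMap.killed_kernel (pb.obj L') σ' hLD hσ' _) hsD.2.1)
      (FP.Stalk.isCoh_pullback (j ≫ i) hs.2.1.1)

end Second

section Main

variable {X D D' E : Scheme.{u}} [IsLocallyNoetherian X] [IsLocallyNoetherian D] [IsLocallyNoetherian D']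
  [IsLocallyNoetherian E] (i : D ⟶ X) [IsClosedImmersion i] (i' : D' ⟶ X) [IsClosedImmersion i']
  (j : E ⟶ D) [IsClosedImmersion j] (q : E ⟶ D') [IsClosedImmersion q] (hsq : IsPullback j q i i')
  {δ : X → ℤ} (hδ : Cyc.IsDimFun X δ) {L L' : X.Modules} (hL : PicF.IsInvertible L)
  (hL' : PicF.IsInvertible L') {s : L.presheaf.obj (Opposite.op ⊤)} {s' : L'.presheaf.obj (Opposite.op ⊤)}
  (hD : Cyc.IsZeroSchemeOf i L s) (hD' : Cyc.IsZeroSchemeOf i' L' s')
  {σ' : ((Scheme.Modules.pullback i).obj L').presheaf.obj (Opposite.op ⊤)}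
  (hσ' : Cyc.IsZeroSchemeOf j ((Scheme.Modules.pullback i).obj L') σ')
  {σ : ((Scheme.Modules.pullback i').obj L).presheaf.obj (Opposite.op ⊤)}
  (hσ : Cyc.IsZeroSchemeOf q ((Scheme.Modules.pullback i').obj L) σ)
  {w : (ξ : X) → Cyc.secFibre L ξ} (hw : ∀ ξ, w ξ ≠ 0)
  {w' : (ξ : X) → Cyc.secFibre L' ξ} (hw' : ∀ ξ, w' ξ ≠ 0)
  {w₁ : (d : D) → Cyc.secFibre ((Scheme.Modules.pullback i).obj L') d} (hw₁ : ∀ d, w₁ d ≠ 0)
  {w₂ : (d : D') → Cyc.secFibre ((Scheme.Modules.pullback i').obj L) d} (hw₂ : ∀ d, w₂ d ≠ 0)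

include hsq in
omit [IsLocallyNoetherian X] [IsLocallyNoetherian D] [IsLocallyNoetherian D'] [IsLocallyNoetherian E]
  [IsClosedImmersion i] [IsClosedImmersion i'] [IsClosedImmersion j] [IsClosedImmersion q] in
theorem fun_eq : (fun z => δ (i' (q z))) = fun z => δ (i (j z)) := funext fun z => by
  rw [← Scheme.Hom.comp_apply, ← Scheme.Hom.comp_apply, hsq.w]

include hsq in
/-- On classes supported on `D`. -/
theorem inside (β : Tot D (fun d => δ (i d))) :
    gys j (Closed.isDimFun i hδ) (PicLoc.isInvertible_pullback i hL') hσ' hw₁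
        (gys i hδ hL hD hw (push (Closed.isDimFun i hδ) hδ i (PP.SubSetup.deltaCompat i) β)) =
      cast (fun_eq i i' j q hsq) (gys q (Closed.isDimFun i' hδ) (PicLoc.isInvertible_pullback i' hL) hσ hw₂
        (gys i' hδ hL' hD' hw' (push (Closed.isDimFun i hδ) hδ i (PP.SubSetup.deltaCompat i) β))) := by
  have hδD := Closed.isDimFun i hδ
  have hδD' := Closed.isDimFun i' hδ
  have hδE := Closed.isDimFun j hδD
  have hfun := fun_eq i i' j q hsq (δ := δ)
  have hcq : Cyc.DeltaCompat q (fun z => δ (i (j z))) (fun d => δ (i' d)) :=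
    hfun ▸ PP.SubSetup.deltaCompat q (δ := fun d => δ (i' d))
  rw [gys_push_self i hδ hL hD hw rfl hδD (PP.SubSetup.deltaCompat i), gys_c1,
    gys_push_square i i' j q hδ hδD hL' hD' hσ' hw' hw₁ hsq.flip.flip (PP.SubSetup.deltaCompat i) hcq,
    gys_push_self q hδD' (PicLoc.isInvertible_pullback i' hL) hσ hw₂ hfun.symm hδE hcq]
  rw [cast_c1 hfun _ hδE, cast_cast, cast, AddMonoidHom.id_apply]
  refine DFunLike.congr_fun (c1_congr hδE (PicLoc.isInvertible_pullback j (PicLoc.isInvertible_pullback i hL))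
    (PicLoc.isInvertible_pullback q (PicLoc.isInvertible_pullback i' hL)) ?_) _
  exact (Scheme.Modules.pullbackComp j i).app L ≪≫ (Scheme.Modules.pullbackCongr hsq.w).app L ≪≫
    ((Scheme.Modules.pullbackComp q i').app L).symm

include hsq in
/-- On effective cycles meeting both properly. -/
theorem outside {n : ℤ} {α : AlgebraicCycle X ℤ} (hα : α ∈ Cyc.Zk X δ n) (h0 : ∀ x, 0 ≤ α x)
    (hout : ∀ x, α x ≠ 0 → x ∉ Set.range ⇑i) (hout' : ∀ x, α x ≠ 0 → x ∉ Set.range ⇑i') :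
    gys j (Closed.isDimFun i hδ) (PicLoc.isInvertible_pullback i hL') hσ' hw₁
        (gys i hδ hL hD hw (cls δ n α hα)) =
      cast (fun_eq i i' j q hsq) (gys q (Closed.isDimFun i' hδ) (PicLoc.isInvertible_pullback i' hL) hσ hw₂
        (gys i' hδ hL' hD' hw' (cls δ n α hα))) := by
  obtain ⟨m, rfl⟩ : ∃ m, n = m + 1 + 1 := ⟨n - 2, by ring⟩
  have hδD := Closed.isDimFun i hδ
  have hδD' := Closed.isDimFun i' hδ
  have hδE := Closed.isDimFun j hδD
  have hfun := fun_eq i i' j q hsq (δ := δ)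
  have hLD := PicLoc.isInvertible_pullback i hL'
  have hLD' := PicLoc.isInvertible_pullback i' hL
  have ha : ∀ x, α x ≠ 0 → δ x = m + 1 + 1 := fun x hx => by_contra fun h => hx (hα x h)
  have hfin := Comm.finite_nhd α
  obtain ⟨mo, hM, fM⟩ := outside_spec i hδ hL hD ⇑α ha hfin h0 hout w
  obtain ⟨mo', hM', fM'⟩ := outside_spec i' hδ hL' hD' ⇑α ha hfin h0 hout' w'
  haveI := mo
  haveI := mo'
  have hkM := MulMap.killed_cokernel L s hL hD (Cyc.cycleSheafPos ⇑α)
  have hkM' := MulMap.killed_cokernel L' s' hL' hD' (Cyc.cycleSheafPos ⇑α)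
  haveI : IsClosedImmersion (j ≫ i) := inferInstance
  obtain ⟨A, B, hA, hB, eAB, fAB⟩ :=
    exists_second i i' j q hsq hδ hL' hD' hσ' hM hkM (j ≫ i) rfl w₁ hw₁
  obtain ⟨A', B', hA', hB', eAB', fAB'⟩ :=
    exists_second i' i q j hsq.flip hδ hL hD hσ hM' hkM' (j ≫ i) hsq.w.symm w₂ hw₂
  haveI := mono_twist s (L' := L') (s' := s') hL hL' (Cyc.cycleSheafPos ⇑α)
  obtain ⟨⟨eK⟩, ⟨eC⟩⟩ := Koszul.nonempty_isos (L := L) (s := s) L' s' hL hL' (Cyc.cycleSheafPos ⇑α)
  have hk₀ := Class.small_of_cohLe (s := s') hL' hM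
  have hk₀' := Class.small_of_cohLe (s := s) hL hM'
  obtain ⟨γ, hγ, eγ⟩ := exists_gys_cycle i hδ hL (s := s) hw hα
  obtain ⟨γ', hγ', eγ'⟩ := exists_gys_cycle i' hδ hL' (s := s') hw' hα
  obtain ⟨ζ, hζ, eζ⟩ := exists_gys_cycle j hδD hLD (s := σ') hw₁ hγ
  obtain ⟨ζ', hζ', eζ'⟩ := exists_gys_cycle q hδD' hLD' (s := σ) hw₂ hγ'
  have hζ'' : ζ' ∈ Cyc.Zk E (fun z => δ (i (j z))) (m + 1 + 1 - 1 - 1) := hfun ▸ hζ'
  rw [gys_cls i hδ hL hD hw hα rfl hγ eγ, gys_cls i' hδ hL' hD' hw' hα rfl hγ' eγ',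
    gys_cls j hδD hLD hσ' hw₁ hγ rfl hζ eζ, gys_cls q hδD' hLD' hσ hw₂ hγ' rfl hζ' eζ',
    cast_cls hfun hζ' hζ'', cls_eq_iff hδE]
  rw [show m + 1 + 1 - 1 - 1 = m by ring]
  refine Chow.ratEquivZero_of_cl hδE hA hB hA' hB' (eAB.trans (Eq.trans ?_ eAB'.symm)) _ fun z => ?_
  · congr 1
    · exact Retr.K0Tools.cl_iso (a := m + 1) (b := m - 1) ((Scheme.Modules.pullback (j ≫ i)).mapIso eC)
        (cohLe_pullback (j ≫ i) hk₀.2.2) (FP.Stalk.isCoh_pullback (j ≫ i) hk₀'.2.2.1)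
    · exact Retr.K0Tools.cl_iso (a := m + 1) (b := m - 1) ((Scheme.Modules.pullback (j ≫ i)).mapIso eK)
        (cohLe_pullback (j ≫ i) hk₀.2.1) (FP.Stalk.isCoh_pullback (j ≫ i) hk₀'.2.1.1)
  · show ζ z - ζ' z = _
    rw [eζ, eζ']
    refine Eq.trans ?_ (congrArg₂ (fun u v : ℤ => u - v) (fAB z) (fAB' z)).symm
    congr 2
    · exact funext fun d => (eγ d).trans (fM d).symm
    · exact funext fun d => (eγ' d).trans (fM' d).symm

include hsq in
/-- Gysin maps commute. -/
theorem gys_comm (x : Tot X δ) :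
    gys j (Closed.isDimFun i hδ) (PicLoc.isInvertible_pullback i hL') hσ' hw₁ (gys i hδ hL hD hw x) =
      cast (fun_eq i i' j q hsq) (gys q (Closed.isDimFun i' hδ) (PicLoc.isInvertible_pullback i' hL) hσ hw₂
        (gys i' hδ hL' hD' hw' x)) := by
  classical
  let Φ₁ := (gys j (Closed.isDimFun i hδ) (PicLoc.isInvertible_pullback i hL') hσ' hw₁).comp
    (gys i hδ hL hD hw)
  let Φ₂ := (cast (fun_eq i i' j q hsq (δ := δ))).comp
    ((gys q (Closed.isDimFun i' hδ) (PicLoc.isInvertible_pullback i' hL) hσ hw₂).comp (gys i' hδ hL' hD' hw'))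
  refine DFunLike.congr_fun (hom_ext (A := Φ₁) (B := Φ₂) fun n α hα => ?_) x
  -- classes on `D` and on `D'`
  have onD : ∀ (γ : AlgebraicCycle X ℤ) (hγ : γ ∈ Cyc.Zk X δ n), (∀ x, γ x ≠ 0 → x ∈ Set.range ⇑i) →
      Φ₁ (cls δ n γ hγ) = Φ₂ (cls δ n γ hγ) := by
    intro γ hγ hsupp
    have hβ : C1.pullCycle i γ ∈ Cyc.Zk D (fun d => δ (i d)) n := fun d hd => hγ (i d) hd
    have e : cls δ n γ hγ = push (Closed.isDimFun i hδ) hδ i (PP.SubSetup.deltaCompat i)
        (cls (fun d => δ (i d)) n (C1.pullCycle i γ) hβ) := by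
      rw [push_cls (Closed.isDimFun i hδ) hδ i _ hβ rfl (map_mem i hβ)]
      refine cls_congr rfl (funext fun y => ?_)
      by_cases hy : y ∈ Set.range ⇑i
      · obtain ⟨d, rfl⟩ := hy
        exact (Closed.map_apply_image (δ := δ) i (C1.pullCycle i γ) d).symm
      · rw [Closed.map_apply_of_not_mem i _ hy]
        exact not_not.1 fun h => hy (hsupp y h)
    rw [e]
    exact inside i i' j q hsq hδ hL hL' hD hD' hσ' hσ hw hw' hw₁ hw₂ _
  have onD' : ∀ (γ : AlgebraicCycle X ℤ) (hγ : γ ∈ Cyc.Zk X δ n), (∀ x, γ x ≠ 0 → x ∈ Set.range ⇑i') →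
      Φ₁ (cls δ n γ hγ) = Φ₂ (cls δ n γ hγ) := by
    intro γ hγ hsupp
    have hβ : C1.pullCycle i' γ ∈ Cyc.Zk D' (fun d => δ (i' d)) n := fun d hd => hγ (i' d) hd
    have e : cls δ n γ hγ = push (Closed.isDimFun i' hδ) hδ i' (PP.SubSetup.deltaCompat i')
        (cls (fun d => δ (i' d)) n (C1.pullCycle i' γ) hβ) := by
      rw [push_cls (Closed.isDimFun i' hδ) hδ i' _ hβ rfl (map_mem i' hβ)]
      refine cls_congr rfl (funext fun y => ?_)
      by_cases hy : y ∈ Set.range ⇑i'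
      · obtain ⟨d, rfl⟩ := hy
        exact (Closed.map_apply_image (δ := δ) i' (C1.pullCycle i' γ) d).symm
      · rw [Closed.map_apply_of_not_mem i' _ hy]
        exact not_not.1 fun h => hy (hsupp y h)
    rw [e]
    have h := inside i' i q j hsq.flip hδ hL' hL hD' hD hσ hσ' hw' hw hw₂ hw₁
      (cls (fun d => δ (i' d)) n (C1.pullCycle i' γ) hβ)
    refine Eq.symm ((congrArg (cast (fun_eq i i' j q hsq (δ := δ))) h).trans ?_)
    exact cast_cast _ _ _
  let S : Set X := (Set.range ⇑i ∪ Set.range ⇑i')ᶜ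
  let P : Set X := {x | 0 ≤ α x}
  have hm : ∀ (γ : AlgebraicCycle X ℤ) (_ : γ ∈ Cyc.Zk X δ n) (T : Set X), C1.restr γ T ∈ Cyc.Zk X δ n :=
    fun γ h T => C1.restr_mem h T
  let αo := C1.restr α S
  let αi := C1.restr (C1.restr α Sᶜ) (Set.range ⇑i)
  let αi' := C1.restr (C1.restr α Sᶜ) (Set.range ⇑i)ᶜ
  let αp := C1.restr αo P
  let αn := -C1.restr αo Pᶜ
  have hp : αp ∈ Cyc.Zk X δ n := hm _ (hm _ hα _) _
  have hn : αn ∈ Cyc.Zk X δ n := (ChowOps.zk X δ n).neg_mem (hm _ (hm _ hα _) _)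
  have hi : αi ∈ Cyc.Zk X δ n := hm _ (hm _ hα _) _
  have hi' : αi' ∈ Cyc.Zk X δ n := hm _ (hm _ hα _) _
  have hsum : α = (αi + αi') + (αp - αn) := by
    simp only [αn, sub_neg_eq_add, αp, αi, αi', αo, C1.restr_add_compl]
    rw [add_comm]
    exact (C1.restr_add_compl α S).symm
  have hcls : cls δ n α hα = (cls δ n αi hi + cls δ n αi' hi') + (cls δ n αp hp - cls δ n αn hn) := by
    rw [← cls_add hi hi', ← cls_sub hp hn, ← cls_add (mem_add hi hi') (mem_sub hp hn)]
    exact cls_congr rfl (congrArg (⇑) hsum)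
  rw [hcls, map_add, map_add, map_add, map_add, map_sub, map_sub]
  have out : ∀ (γ : AlgebraicCycle X ℤ) (hγ : γ ∈ Cyc.Zk X δ n), (∀ x, 0 ≤ γ x) →
      (∀ x, γ x ≠ 0 → x ∈ S) → Φ₁ (cls δ n γ hγ) = Φ₂ (cls δ n γ hγ) := fun γ hγ h0 hS =>
    outside i i' j q hsq hδ hL hL' hD hD' hσ' hσ hw hw' hw₁ hw₂ hγ h0
      (fun x hx h => hS x hx (Or.inl h)) (fun x hx h => hS x hx (Or.inr h))
  have hS : ∀ (T : Set X) (x : X), C1.restr αo T x ≠ 0 → x ∈ S := fun T x h => by
    by_contra hx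
    refine h ?_
    by_cases hT : x ∈ T
    · rw [C1.restr_apply_mem _ hT]
      exact C1.restr_apply_not_mem α hx
    · exact C1.restr_apply_not_mem _ hT
  rw [onD αi hi fun x hx => by
      by_contra h
      exact hx (C1.restr_apply_not_mem _ h),
    onD' αi' hi' fun x hx => by
      by_contra h
      refine hx ?_
      by_cases h1 : x ∈ Set.range ⇑i
      · exact C1.restr_apply_not_mem _ (not_not.2 h1)
      · rw [show αi' x = C1.restr α Sᶜ x from C1.restr_apply_mem _ h1]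
        exact C1.restr_apply_not_mem α (not_not.2 (show x ∈ S from fun hu => hu.elim h1 h)),
    out αp hp (fun x => by
      show 0 ≤ C1.restr αo P x
      by_cases hx : x ∈ P
      · rw [C1.restr_apply_mem _ hx]
        by_cases hs : x ∈ S
        · rw [show αo x = α x from C1.restr_apply_mem α hs]; exact hx
        · rw [show αo x = 0 from C1.restr_apply_not_mem α hs]
      · rw [C1.restr_apply_not_mem _ hx]) (hS P),
    out αn hn (fun x => by
      show 0 ≤ -C1.restr αo Pᶜ x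
      by_cases hx : x ∈ P
      · rw [C1.restr_apply_not_mem _ (not_not.2 hx)]; simp
      · rw [C1.restr_apply_mem _ (show x ∈ Pᶜ from hx)]
        by_cases hs : x ∈ S
        · rw [show αo x = α x from C1.restr_apply_mem α hs]
          have : α x < 0 := not_le.1 hx
          omega
        · rw [show αo x = 0 from C1.restr_apply_not_mem α hs]; simp)
      (fun x h => hS Pᶜ x fun h0 => h (show -C1.restr αo Pᶜ x = 0 by rw [h0, neg_zero]))]

end Main

end Groth.Agent.Lib.Cyc.Gys.Commute
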