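import Groth.Agent.Lib.Cyc.FP.Stalk
import Groth.Agent.Lib.Cyc.K0.Cycles
import Groth.Agent.Lib.Cyc.Dev.SchemeEquiv
import Groth.Agent.Lib.Modules.ClosedUnit
import Groth.Agent.Lib.Cyc.Retr.K0Tools

/-!
# Modules killed by a closed subscheme, seen on the subscheme
-/

set_option autoImplicit false
set_option linter.style.haveILetI false
universe u

open CategoryTheory CategoryTheory.Limits AlgebraicGeometry TopologicalSpace

namespace Groth.Agent.Lib.Cyc.Gys.Killed

open Groth.Agent.Lib Groth.Agent.Lib.Cyc Groth.Agent.Lib.Modules.StalkModule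

variable {X D : Scheme.{u}} (i : D ⟶ X)

/-- The ideal of `D` kills `A`, stalk by stalk. -/
structure IsKilled (A : X.Modules) : Prop where
  off : ∀ x : X, x ∉ Set.range ⇑i → Subsingleton (A.presheaf.stalk x)
  smul : ∀ (d : D) (c : X.presheaf.stalk (i d)), (i.stalkMap d).hom c = 0 →
    ∀ a : A.presheaf.stalk (i d), c • a = 0

theorem IsKilled.of_mono {A B : X.Modules} (f : A ⟶ B) [Mono f] (h : IsKilled i B) : IsKilled i A where
  off x hx := by
    haveI := h.off x hx
    exact ((mono_iff_stalkMapₗ_injective f).1 inferInstance x).subsingleton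
  smul d c hc a := (mono_iff_stalkMapₗ_injective f).1 inferInstance (i d)
    (by rw [map_smul, map_zero]; exact h.smul d c hc _)

theorem IsKilled.of_epi {A B : X.Modules} (f : A ⟶ B) [Epi f] (h : IsKilled i A) : IsKilled i B where
  off x hx := by
    haveI := h.off x hx
    exact ((epi_iff_stalkMapₗ_surjective f).1 inferInstance x).subsingleton
  smul d c hc b := by
    obtain ⟨a, rfl⟩ := (epi_iff_stalkMapₗ_surjective f).1 inferInstance (i d) b
    rw [← map_smul, h.smul d c hc a, map_zero]

variable [IsClosedImmersion i]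

set_option quotPrecheck false in
local notation "η'" => (Scheme.Modules.pullbackPushforwardAdjunction i).unit

theorem isIso_unit {A : X.Modules} (h : IsKilled i A) :
    IsIso ((η').app A) := by
  refine Modules.ClosedUnit.isIso_unit i A fun U a ha s => ?_
  refine TopCat.Presheaf.section_ext (F := ⟨A.presheaf, A.isSheaf⟩) U.1 _ _ fun x hx => ?_
  refine Eq.trans ?_ (map_zero (A.presheaf.germ U.1 x hx).hom).symm
  by_cases hxD : x ∈ Set.range ⇑i
  · obtain ⟨d, rfl⟩ := hxD
    refine (germ_smul _ _ _).trans (h.smul d _ ?_ _)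
    rw [Scheme.Hom.ker_apply, RingHom.mem_ker] at ha
    exact ((Scheme.Hom.germ_stalkMap_apply i U.1 d hx a).trans
      ((congrArg (D.presheaf.germ (i ⁻¹ᵁ U.1) d hx) ha).trans (map_zero _)))
  · exact (h.off x hxD).elim _ _

/-- The stalk of a killed module is the stalk of its restriction. -/
theorem bijective_unitStalk {A : X.Modules} (h : IsKilled i A) (d : D) :
    Function.Bijective (DerivedOX.PullbackStalk.unitStalk i d A) := by
  haveI := isIso_unit i h
  exact (PushClosed.Unit.bijective_pushStalkMap i _ d).comp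
    ((isIso_iff_stalkMapₗ_bijective ((η').app A)).1 inferInstance (i d))

theorem nontrivial_pull {A : X.Modules} (h : IsKilled i A) (d : D) :
    Nontrivial (((Scheme.Modules.pullback i).obj A).presheaf.stalk d) ↔
      Nontrivial (A.presheaf.stalk (i d)) :=
  (Equiv.ofBijective _ (bijective_unitStalk i h d)).nontrivial_congr.symm

theorem length_pull {A : X.Modules} (h : IsKilled i A) (d : D) :
    Module.length (D.presheaf.stalk d) (((Scheme.Modules.pullback i).obj A).presheaf.stalk d) =
      Module.length (X.presheaf.stalk (i d)) (A.presheaf.stalk (i d)) := by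
  let M := ((Scheme.Modules.pullback i).obj A).presheaf.stalk d
  letI : Algebra (X.presheaf.stalk (i d)) (D.presheaf.stalk d) := (i.stalkMap d).hom.toAlgebra
  letI : Module (X.presheaf.stalk (i d)) M := Module.compHom M (i.stalkMap d).hom
  haveI : IsScalarTower (X.presheaf.stalk (i d)) (D.presheaf.stalk d) M :=
    ⟨fun a b m => mul_smul ((i.stalkMap d).hom a) b m⟩
  rw [← Module.length_eq_of_surjective (S := X.presheaf.stalk (i d)) (R := D.presheaf.stalk d)
    (M := M) (i.stalkMap_surjective d)]
  let e : A.presheaf.stalk (i d) →ₗ[X.presheaf.stalk (i d)] M :=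
    { toFun := fun a => DerivedOX.PullbackStalk.unitStalk i d A a
      map_add' := fun a b => map_add (DerivedOX.PullbackStalk.unitStalk i d A).hom a b
      map_smul' := fun c a => map_smul (DerivedOX.PullbackStalk.unitStalk i d A).hom c a }
  exact (LinearEquiv.ofBijective e (bijective_unitStalk i h d)).length_eq.symm

variable {δ : X → ℤ} {a b k : ℤ}

theorem sheafFun_pull {A : X.Modules} (h : IsKilled i A) (d : D) :
    Cyc.sheafFun (fun d => δ (i d)) k ((Scheme.Modules.pullback i).obj A) d =
      Cyc.sheafFun δ k A (i d) := by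
  simp only [Cyc.sheafFun, length_pull i h]

theorem cohLe_pull {A : X.Modules} (h : IsKilled i A) (hA : Cyc.CohLe δ a A) :
    Cyc.CohLe (fun d => δ (i d)) a ((Scheme.Modules.pullback i).obj A) :=
  ⟨FP.Stalk.isCoh_pullback i hA.1, fun d hd => hA.2 (i d) ((nontrivial_pull i h d).1 hd)⟩

/-- The class on `D` of a killed module. -/
noncomputable abbrev clD (δ : X → ℤ) (a b : ℤ) (A : X.Modules) :
    Cyc.K0CohQuot (fun d => δ (i d)) a b :=
  Cyc.toK0CohQuot (fun d => δ (i d)) a b ((Scheme.Modules.pullback i).obj A)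

/-- Restriction is exact on killed modules. -/
theorem clD_rel [IsLocallyNoetherian X] {S : ShortComplex X.Modules} (hS : S.ShortExact)
    (hk : IsKilled i S.X₂) (hA : Cyc.CohLe δ a S.X₂) (h₁ : Coh.IsCoh S.X₁) :
    clD i δ a b S.X₂ = clD i δ a b S.X₁ + clD i δ a b S.X₃ := by
  haveI := hS.mono_f
  haveI := hS.epi_g
  have k₁ := hk.of_mono i S.f
  have k₃ := hk.of_epi i S.g
  haveI i1 := isIso_unit i k₁
  haveI i2 := isIso_unit i hk
  haveI i3 := isIso_unit i k₃
  have c₁ : Cyc.CohLe δ a S.X₁ := K0.Cycles.cohLe_of_mono S.f h₁ hA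
  haveI := h₁.1
  haveI := hA.1.1
  have h₃ : Coh.IsCoh S.X₃ := CohBasics.Closure.isCoh_of_iso
    ((cokernelIsCokernel S.f).coconePointUniqueUpToIso hS.gIsCokernel)
    (CohBasics.Closure.isCoh_cokernel S.f h₁.1 hA.1)
  have c₃ : Cyc.CohLe δ a S.X₃ := K0.Cycles.cohLe_of_epi S.g h₃ hA
  let adj := Scheme.Modules.pullbackPushforwardAdjunction i
  haveI := fun N => Dev.SchemeCase.isIso_counit i N
  haveI : IsIso adj.counit := NatIso.isIso_of_isIso_app _
  haveI := adj.fullyFaithfulROfIsIsoCounit.faithful
  haveI : IsLocallyNoetherian D := LocallyOfFiniteType.isLocallyNoetherian i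
  have hS' : (S.map (Scheme.Modules.pullback i)).ShortExact := by
    refine ShortExact.reflects_shortExact_of_faithful (Scheme.Modules.pushforward i) ?_
    refine ShortComplex.shortExact_of_iso ?_ hS
    exact ShortComplex.isoMk (@asIso _ _ _ _ _ i1) (@asIso _ _ _ _ _ i2)
      (@asIso _ _ _ _ _ i3) (adj.unit.naturality S.f).symm (adj.unit.naturality S.g).symm
  exact K0.Cycles.mk_rel (fun d => δ (i d)) a b hS' (cohLe_pull i k₁ c₁) (cohLe_pull i hk hA)
    (cohLe_pull i k₃ c₃)

/-- For an exact pair the middle class is the sum of the two kernels. -/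
theorem clD_exact [IsLocallyNoetherian X] {S : ShortComplex X.Modules} (hS : S.Exact)
    (hk : IsKilled i S.X₁) (hA : Cyc.CohLe δ a S.X₁) (h₂ : Coh.IsCoh S.X₂) :
    clD i δ a b S.X₁ = clD i δ a b (kernel S.f) + clD i δ a b (kernel S.g) := by
  haveI : Epi (kernel.lift S.g S.f S.zero) := S.exact_iff_epi_kernel_lift.1 hS
  have hw : kernel.ι S.f ≫ kernel.lift S.g S.f S.zero = 0 := by
    rw [← cancel_mono (kernel.ι S.g), Category.assoc, kernel.lift_ι, kernel.condition, zero_comp]
  let T := ShortComplex.mk (kernel.ι S.f) (kernel.lift S.g S.f S.zero) hw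
  haveI : Mono T.f := inferInstanceAs (Mono (kernel.ι S.f))
  haveI : Epi T.g := inferInstanceAs (Epi (kernel.lift S.g S.f S.zero))
  have hT : T.ShortExact := by
    refine ShortComplex.ShortExact.mk' ?_ inferInstance inferInstance
    refine T.exact_of_f_is_kernel ?_
    refine KernelFork.IsLimit.ofι _ _ (fun g hg => kernel.lift S.f g ?_) (fun g hg => kernel.lift_ι _ _ _)
      (fun g hg m hm => (cancel_mono (kernel.ι S.f)).1 (hm.trans (kernel.lift_ι _ _ _).symm))
    have := congrArg (· ≫ kernel.ι S.g) hg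
    simpa [T] using this
  haveI := hA.1.1
  haveI := h₂.1
  exact clD_rel i hT hk hA (CohBasics.Closure.isCoh_kernel S.f hA.1 h₂.1)

end Groth.Agent.Lib.Cyc.Gys.Killed
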