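import Groth.Agent.Lib.Cyc.C1K.TStalk
import Groth.Agent.Lib.Cyc.C1Indep
import Groth.Agent.Lib.ClSub.Cartier
import Groth.Agent.Lib.Cyc.Gys.Killed
import Groth.Agent.Lib.Snapper.Twist
import Groth.Prelude.Def_C1

/-!
# Multiplication by a section `F → F ⊗ L`
-/

set_option autoImplicit false
set_option linter.style.haveILetI false
universe u

open CategoryTheory CategoryTheory.Limits AlgebraicGeometry MonoidalCategory
open scoped TensorProduct

namespace Groth.Agent.Lib.Cyc.Gys.MulMap

open Groth.Agent.Lib Groth.Agent.Lib.Modules.StalkModule Groth.Agent.Lib.TensorMod.Basic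
  Groth.Agent.Lib.Cyc.C1K

variable {X : Scheme.{u}} (L : X.Modules) (s : L.presheaf.obj (Opposite.op ⊤))

/-- Multiplication by `s`. -/
noncomputable def mulS (F : X.Modules) : F ⟶ CohB1.tensorMod F L :=
  (rightUnit F).inv ≫ tmap (𝟙 F) (ClSub.Cartier.ofSection L s)

theorem mulS_natural {F G : X.Modules} (u : F ⟶ G) :
    u ≫ mulS L s G = mulS L s F ≫ tmap u (𝟙 L) := by
  rw [mulS, mulS, Category.assoc (rightUnit F).inv, ← tmap_comp, Category.id_comp, Category.comp_id,
    ← Category.assoc u,
    show u ≫ (rightUnit G).inv = (rightUnit F).inv ≫ tmap u (𝟙 _) by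
      rw [Iso.eq_inv_comp, ← Category.assoc, ← rightUnit_natural, Category.assoc, Iso.hom_inv_id,
        Category.comp_id],
    Category.assoc, ← tmap_comp, Category.comp_id, Category.id_comp]

theorem ofSection_one (x : X) :
    stalkMapₗ (ClSub.Cartier.ofSection L s) x (C1.one x) = L.presheaf.germ ⊤ x trivial s := by
  refine (stalkMapₗ_germ (ClSub.Cartier.ofSection L s) (U := ⊤) trivial _).trans ?_
  refine congrArg (L.presheaf.germ ⊤ x trivial) ?_
  refine (ClSub.Cartier.ofSection_app L s ⊤ _).trans ?_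
  rw [show homOfLE (le_top : (⊤ : X.Opens) ≤ ⊤) = 𝟙 _ from Subsingleton.elim _ _, op_id,
    CategoryTheory.Functor.map_id]
  exact one_smul _ _

theorem tmap_id_eq (M : X.Modules) {N N' : X.Modules} (g : N ⟶ N') :
    tmap (𝟙 M) g = (DCoh.tensorBi.obj M).map g := by
  simp [DCoh.tensorBi, TensorMod.Basic.tmap, TensorMod.Reflective.tm]
  rfl

theorem tS_natural_right (x : X) (M : X.Modules) {N N' : X.Modules} (g : N ⟶ N')
    (z : (CohB1.tensorMod M N).presheaf.stalk x) :
    TStalk.tS x M N' (stalkMapₗ (tmap (𝟙 M) g) x z) =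
      LinearMap.lTensor _ (stalkMapₗ g x) (TStalk.tS x M N z) := by
  rw [tmap_id_eq]
  have := DerivedOX.TensorSheaf.tensorStalk_natural x (𝟙 M) g z
  rw [CategoryTheory.Functor.map_id, NatTrans.id_app, Category.id_comp, stalkMapₗ_id] at this
  exact this

/-- At a point multiplication by `s` is multiplication by its coefficient. -/
theorem exists_stalk (hL : PicF.IsInvertible L) {x : X} {t : L.presheaf.stalk x} {f : X.presheaf.stalk x}
    (ht : Submodule.span (X.presheaf.stalk x) {t} = ⊤)
    (hs : L.presheaf.germ ⊤ x trivial s = f • t) (F : X.Modules) :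
    ∃ E : (CohB1.tensorMod F L).presheaf.stalk x ≃ₗ[X.presheaf.stalk x] F.presheaf.stalk x,
      ∀ m, E (stalkMapₗ (mulS L s F) x m) = f • m := by
  obtain ⟨t₀, ht₀, hfree⟩ := C1Indep.exists_free_gen hL x
  have ht' : ∀ a : X.presheaf.stalk x, a • t = 0 → a = 0 := by
    obtain ⟨b, hb⟩ := Submodule.mem_span_singleton.1
      (show t₀ ∈ Submodule.span (X.presheaf.stalk x) {t} by rw [ht]; trivial)
    intro a ha
    exact hfree a (by rw [← hb, smul_comm, ha, smul_zero])
  let R := X.presheaf.stalk x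
  let pL : R →ₗ[R] L.presheaf.stalk x := LinearMap.toSpanSingleton R _ t
  let pO : R →ₗ[R] (Coh.structureModule X).presheaf.stalk x :=
    LinearMap.toSpanSingleton R _ (C1.one x)
  have hpL : Function.Bijective pL := ⟨(injective_iff_map_eq_zero pL).2 ht', fun v => by
    obtain ⟨a, ha⟩ := Submodule.mem_span_singleton.1
      (show v ∈ Submodule.span R {t} by rw [ht]; trivial)
    exact ⟨a, ha⟩⟩
  have hpO : Function.Bijective pO :=
    ⟨(injective_iff_map_eq_zero pO).2 fun a ha => C1.eq_zero_of_smul_one_eq_zero ha, fun v => by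
    obtain ⟨a, ha⟩ := Submodule.mem_span_singleton.1
      (show v ∈ Submodule.span R {C1.one x} by rw [C1.span_one]; trivial)
    exact ⟨a, ha⟩⟩
  let ψ : L.presheaf.stalk x ≃ₗ[R] (Coh.structureModule X).presheaf.stalk x :=
    (LinearEquiv.ofBijective pL hpL).symm.trans (LinearEquiv.ofBijective pO hpO)
  let γ := (stalkLinearEquiv (rightUnit F).symm x).trans (TStalk.tS x F (Coh.structureModule X))
  have hψ : ∀ v, ψ (stalkMapₗ (ClSub.Cartier.ofSection L s) x v) = f • v := by
    intro v
    obtain ⟨a, rfl⟩ := hpO.2 v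
    show ψ (stalkMapₗ (ClSub.Cartier.ofSection L s) x (a • C1.one x)) = f • a • C1.one x
    rw [map_smul, ofSection_one, hs, map_smul, map_smul, smul_comm]
    congr 2
    show pO ((LinearEquiv.ofBijective pL hpL).symm t) = C1.one x
    rw [show (LinearEquiv.ofBijective pL hpL).symm t = 1 from
      (LinearEquiv.symm_apply_eq _).2 (one_smul R t).symm]
    exact one_smul R _
  refine ⟨(TStalk.tS x F L).trans ((LinearEquiv.lTensor _ ψ).trans γ.symm), fun m => ?_⟩
  show γ.symm (LinearEquiv.lTensor _ ψ (TStalk.tS x F L (stalkMapₗ (mulS L s F) x m))) = f • m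
  have e1 : stalkMapₗ (mulS L s F) x m =
      stalkMapₗ (tmap (𝟙 F) (ClSub.Cartier.ofSection L s)) x (stalkMapₗ (rightUnit F).inv x m) := by
    rw [mulS, stalkMapₗ_comp, LinearMap.comp_apply]
  rw [e1, tS_natural_right]
  have e2 : ∀ z : F.presheaf.stalk x ⊗[R] (Coh.structureModule X).presheaf.stalk x,
      LinearEquiv.lTensor _ ψ (LinearMap.lTensor _ (stalkMapₗ (ClSub.Cartier.ofSection L s) x) z) =
        f • z := by
    intro z
    induction z using TensorProduct.induction_on with
    | zero => rw [map_zero, map_zero, smul_zero]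
    | tmul p q => rw [LinearMap.lTensor_tmul, LinearEquiv.lTensor_tmul, hψ, TensorProduct.tmul_smul]
    | add p q hp hq => rw [map_add, map_add, hp, hq, smul_add]
  rw [e2, map_smul]
  congr 1
  exact γ.symm_apply_apply m

section Zero

variable {D : Scheme.{u}} {i : D ⟶ X}

theorem isUnit_coeff (hD : Cyc.IsZeroSchemeOf i L s) {x : X} (hx : x ∉ Set.range ⇑i)
    {t : L.presheaf.stalk x} {f : X.presheaf.stalk x} (hs : L.presheaf.germ ⊤ x trivial s = f • t) :
    IsUnit f := by
  by_contra hu
  refine hx (hD.1 ▸ ?_)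
  show Submodule.Quotient.mk _ = 0
  rw [hs, Submodule.Quotient.mk_eq_zero]
  exact Submodule.smul_mem_smul ((IsLocalRing.mem_maximalIdeal f).2 hu) trivial

variable (hL : PicF.IsInvertible L) (hD : Cyc.IsZeroSchemeOf i L s) (F : X.Modules)

include hL in
theorem exists_coeff (x : X) : ∃ (t : L.presheaf.stalk x) (f : X.presheaf.stalk x),
    Submodule.span (X.presheaf.stalk x) {t} = ⊤ ∧ L.presheaf.germ ⊤ x trivial s = f • t := by
  obtain ⟨t, ht, -⟩ := C1Indep.exists_free_gen hL x
  obtain ⟨f, hf⟩ := Submodule.mem_span_singleton.1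
    (show L.presheaf.germ ⊤ x trivial s ∈ Submodule.span (X.presheaf.stalk x) {t} by
      rw [ht]; trivial)
  exact ⟨t, f, ht, hf.symm⟩

include hL hD in
theorem killed_kernel : Killed.IsKilled i (kernel (mulS L s F)) where
  off x hx := by
    obtain ⟨t, f, ht, hs⟩ := exists_coeff L s hL x
    obtain ⟨E, hE⟩ := exists_stalk L s hL ht hs F
    have hu := isUnit_coeff L s hD hx hs
    refine ⟨fun a b => (mono_iff_stalkMapₗ_injective (kernel.ι (mulS L s F))).1 inferInstance x ?_⟩
    refine hu.smul_left_cancel.1 ?_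
    rw [← hE, ← hE]
    simp only [← LinearMap.comp_apply, ← stalkMapₗ_comp, kernel.condition, stalkMapₗ_zero]
    rfl
  smul d c hc a := by
    obtain ⟨t, f, ht, hs, hker⟩ := hD.2 d
    obtain ⟨E, hE⟩ := exists_stalk L s hL ht hs F
    refine (mono_iff_stalkMapₗ_injective (kernel.ι (mulS L s F))).1 inferInstance (i d) ?_
    obtain ⟨r, rfl⟩ := Ideal.mem_span_singleton'.1
      (show c ∈ Ideal.span {f} by rw [← hker]; exact hc)
    rw [map_smul, map_zero, mul_smul, ← hE, ← LinearMap.comp_apply (stalkMapₗ (mulS L s F) (i d)),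
      ← stalkMapₗ_comp, kernel.condition, stalkMapₗ_zero, LinearMap.zero_apply, map_zero, smul_zero]

include hL hD in
theorem killed_cokernel : Killed.IsKilled i (cokernel (mulS L s F)) where
  off x hx := by
    obtain ⟨t, f, ht, hs⟩ := exists_coeff L s hL x
    obtain ⟨E, hE⟩ := exists_stalk L s hL ht hs F
    have hu := isUnit_coeff L s hD hx hs
    suffices ∀ a : (cokernel (mulS L s F)).presheaf.stalk x, a = 0 from
      ⟨fun a b => (this a).trans (this b).symm⟩
    intro a
    obtain ⟨v, rfl⟩ := (epi_iff_stalkMapₗ_surjective (cokernel.π (mulS L s F))).1 inferInstance x a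
    obtain ⟨m, hm⟩ : ∃ m, stalkMapₗ (mulS L s F) x m = v :=
      ⟨(↑hu.unit⁻¹ : X.presheaf.stalk x) • E v, E.injective (by
        rw [map_smul, map_smul, hE, smul_smul, hu.val_inv_mul, one_smul])⟩
    rw [← hm, ← LinearMap.comp_apply, ← stalkMapₗ_comp, cokernel.condition, stalkMapₗ_zero,
      LinearMap.zero_apply]
  smul d c hc a := by
    obtain ⟨t, f, ht, hs, hker⟩ := hD.2 d
    obtain ⟨E, hE⟩ := exists_stalk L s hL ht hs F
    obtain ⟨v, rfl⟩ := (epi_iff_stalkMapₗ_surjective (cokernel.π (mulS L s F))).1 inferInstance (i d) a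
    obtain ⟨r, rfl⟩ := Ideal.mem_span_singleton'.1
      (show c ∈ Ideal.span {f} by rw [← hker]; exact hc)
    have hm : stalkMapₗ (mulS L s F) (i d) (r • E v) = (r * f) • v := E.injective (by
      rw [hE, map_smul, smul_smul, mul_comm])
    rw [← map_smul, ← hm, ← LinearMap.comp_apply, ← stalkMapₗ_comp, cokernel.condition,
      stalkMapₗ_zero, LinearMap.zero_apply]

end Zero

end Groth.Agent.Lib.Cyc.Gys.MulMap
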