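import Groth.Agent.Lib.Cyc.Gys.Rat

/-!
# Gysin classes of modules meeting the divisor properly
-/

set_option autoImplicit false
set_option linter.style.haveILetI false
universe u

open CategoryTheory CategoryTheory.Limits AlgebraicGeometry IsLocalRing

namespace Groth.Agent.Lib.Cyc.Gys.Proper

open Groth.Agent.Lib Groth.Agent.Lib.Cyc Groth.Agent.Lib.Modules.StalkModule
  Groth.Agent.Lib.TensorMod.Basic Groth.Agent.Lib.Cyc.C1K Groth.Agent.Lib.Cyc.Gys.Class

variable {X D : Scheme.{u}} (i : D ⟶ X) [IsClosedImmersion i] {δ : X → ℤ}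
  {L : X.Modules} {s : L.presheaf.obj (Opposite.op ⊤)}
  (hL : PicF.IsInvertible L) (hD : Cyc.IsZeroSchemeOf i L s)

include hL hD in
/-- The section vanishes on `D`. -/
theorem pullback_mulS (F : X.Modules) :
    (Scheme.Modules.pullback i).map (MulMap.mulS L s F) = 0 := by
  let adj := Scheme.Modules.pullbackPushforwardAdjunction i
  refine (adj.homEquiv _ _).injective ?_
  have e : adj.homEquiv F _ ((Scheme.Modules.pullback i).map (MulMap.mulS L s F)) =
      MulMap.mulS L s F ≫ adj.unit.app (CohB1.tensorMod F L) := by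
    rw [Adjunction.homEquiv_unit]
    exact (adj.unit.naturality (MulMap.mulS L s F)).symm
  rw [e, Adjunction.homEquiv_unit]
  refine Modules.Stalk.hom_ext_stalk fun x => ?_
  ext m
  let R := (Scheme.Modules.pushforward i).obj ((Scheme.Modules.pullback i).obj (CohB1.tensorMod F L))
  by_cases hx : x ∈ Set.range ⇑i
  swap
  · haveI := PushClosed.Unit.subsingleton_stalk_push i
      ((Scheme.Modules.pullback i).obj (CohB1.tensorMod F L)) hx
    exact Subsingleton.elim (α := R.presheaf.stalk x) _ _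
  obtain ⟨d, rfl⟩ := hx
  refine (PushClosed.Unit.bijective_pushStalkMap i _ d).1 ?_
  obtain ⟨t, f, ht, hs, hker⟩ := hD.2 d
  obtain ⟨E, hE⟩ := MulMap.exists_stalk L s hL ht hs F
  have hφ : stalkMapₗ (MulMap.mulS L s F) (i d) m = f • E.symm m := E.injective (by
    rw [map_smul, E.apply_symm_apply]; exact hE m)
  have hf : (i.stalkMap d).hom f = 0 :=
    RingHom.mem_ker.1 (hker ▸ Ideal.mem_span_singleton_self f)
  have hz : adj.unit.app F ≫ (Scheme.Modules.pushforward i).map
      (0 : (Scheme.Modules.pullback i).obj F ⟶ _) =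
      (0 : F ⟶ R) := by
    haveI : (Scheme.Modules.pushforward i).IsRightAdjoint := adj.isRightAdjoint
    haveI : PreservesLimitsOfShape (Discrete PEmpty.{1}) (Scheme.Modules.pushforward i) := inferInstance
    haveI : (Scheme.Modules.pushforward i).PreservesZeroMorphisms :=
      Functor.preservesZeroMorphisms_of_preserves_terminal_object
    rw [Functor.map_zero, comp_zero]
  rw [hz]
  show DerivedOX.PullbackStalk.pushStalkMap i d _
      (stalkMapₗ (MulMap.mulS L s F ≫ adj.unit.app (CohB1.tensorMod F L)) (i d) m) =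
    DerivedOX.PullbackStalk.pushStalkMap i d _ (stalkMapₗ (0 : F ⟶ R) (i d) m)
  rw [stalkMapₗ_zero, LinearMap.zero_apply, stalkMapₗ_comp, LinearMap.comp_apply, hφ, map_smul,
    map_zero]
  refine (DerivedOX.PullbackStalk.pushStalkMap_smul i d _ f _).trans ?_
  rw [hf, zero_smul]

/-- The restriction of the cokernel is the restriction of the twist. -/
noncomputable def pullCokerIso (F : X.Modules) :
    (Scheme.Modules.pullback i).obj (cokernel (MulMap.mulS L s F)) ≅
      (Scheme.Modules.pullback i).obj (CohB1.tensorMod F L) :=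
  haveI : PreservesColimitsOfSize.{0, 0} (Scheme.Modules.pullback i) :=
    (Scheme.Modules.pullbackPushforwardAdjunction i).leftAdjoint_preservesColimits
  haveI : (Scheme.Modules.pullback i).PreservesZeroMorphisms :=
    Functor.preservesZeroMorphisms_of_preserves_initial_object
  PreservesCokernel.iso _ _ ≪≫ cokernelIsoOfEq (pullback_mulS i hL hD F) ≪≫ cokernelZeroIsoTarget

variable [IsLocallyNoetherian X] (hδ : Cyc.IsDimFun X δ) {a b k : ℤ}

include hL hD in
omit [IsClosedImmersion i] [IsLocallyNoetherian X] in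
theorem mono_of_injective {F G : X.Modules} [Mono (MulMap.mulS L s F)]
    (h : ∀ x, ∃ g : G.presheaf.stalk x →ₗ[X.presheaf.stalk x] F.presheaf.stalk x, Function.Injective g) :
    Mono (MulMap.mulS L s G) := by
  rw [mono_iff_stalkMapₗ_injective]
  intro x
  obtain ⟨t, f, ht, hs⟩ := MulMap.exists_coeff L s hL x
  obtain ⟨EG, hG⟩ := MulMap.exists_stalk L s hL ht hs G
  obtain ⟨EF, hF⟩ := MulMap.exists_stalk L s hL ht hs F
  obtain ⟨g, hg⟩ := h x
  intro m m' hm
  refine hg ((mono_iff_stalkMapₗ_injective (MulMap.mulS L s F)).1 inferInstance x (EF.injective ?_))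
  rw [hF, hF, ← map_smul, ← map_smul, ← hG, ← hG, hm]

include hL hD in
/-- The Gysin class of a module without torsion along `D`. -/
theorem gys_eq {F : X.Modules} [Mono (MulMap.mulS L s F)] (hs : Small δ L s a F) :
    Cyc.CohLe (fun d => δ (i d)) a ((Scheme.Modules.pullback i).obj (CohB1.tensorMod F L)) ∧
      gys i δ L s a b F =
        Cyc.toK0CohQuot (fun d => δ (i d)) a b
          ((Scheme.Modules.pullback i).obj (CohB1.tensorMod F L)) ∧
      ∀ d, Cyc.sheafFun (fun d => δ (i d)) a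
          ((Scheme.Modules.pullback i).obj (CohB1.tensorMod F L)) d =
        Cyc.sheafFun δ a (cokernel (MulMap.mulS L s F)) (i d) := by
  haveI : IsLocallyNoetherian D := LocallyOfFiniteType.isLocallyNoetherian i
  have hk := MulMap.killed_cokernel L s hL hD F
  let e := pullCokerIso i hL hD F
  have hc := Killed.cohLe_pull i hk hs.2.2
  have hT : Coh.IsCoh ((Scheme.Modules.pullback i).obj (CohB1.tensorMod F L)) :=
    CohBasics.Closure.isCoh_of_iso e hc.1
  refine ⟨K0.Cycles.cohLe_of_mono e.inv hT hc, ?_, fun d => ?_⟩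
  · rw [gys, clD_of_isZero i (isZero_kernel_of_mono (MulMap.mulS L s F)), sub_zero]
    exact Retr.K0Tools.cl_iso e hc hT
  · rw [← Killed.sheafFun_pull i hk]
    simp only [Cyc.sheafFun, (stalkLinearEquiv e d).length_eq]

/-- `(F ⊗ N) ⊗ L ≅ (F ⊗ L) ⊗ N`. -/
noncomputable def swapIso (F N L : X.Modules) :
    CohB1.tensorMod (CohB1.tensorMod F N) L ≅ CohB1.tensorMod (CohB1.tensorMod F L) N :=
  assoc F N L ≪≫ tensorIso (Iso.refl F) (comm N L) ≪≫ (assoc F L N).symm

section Family

variable {ι : Type u} {ξ : ι → X} (hlf : Family.LF ξ) (hξ : ∀ n, δ (ξ n) = k + 1 + 1)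
  (hout : ∀ n, ξ n ∉ Set.range ⇑i)

include hδ hL hD hlf hξ hout in
/-- Facts about a family of prime cycles meeting `D` properly. -/
theorem family_spec :
    Mono (MulMap.mulS L s (∐ fun n => Cyc.closureStructureSheaf (ξ n))) ∧
    Cyc.CohLe δ (k + 1 + 1) (∐ fun n => Cyc.closureStructureSheaf (ξ n)) ∧
    (∀ y ∈ Set.range ⇑i,
      Nontrivial ((∐ fun n => Cyc.closureStructureSheaf (ξ n)).presheaf.stalk y) → δ y ≤ k + 1) ∧
    ∀ x, Cyc.sheafFun δ (k + 1) (cokernel (MulMap.mulS L s (∐ fun n => Cyc.closureStructureSheaf (ξ n)))) x =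
      ∑ᶠ n, Cyc.secDivFun δ L (ξ n) (Submodule.Quotient.mk (L.presheaf.germ ⊤ (ξ n) trivial s)) x := by
  let O := fun n => Cyc.closureStructureSheaf (ξ n)
  let M := fun n => CohB1.tensorMod (O n) L
  have cO : ∀ n, Coh.IsCoh (O n) := fun n => Devissage.Closure.isCoh_closureStructureSheaf _
  have hOn : Family.OnCl ξ O := fun n y hy => Retr.Witness.stalk_trivial_of_not_specializes hy
  have hMn : Family.OnCl ξ M := fun n y hy => by
    haveI := hOn n y hy
    rw [← Module.length_eq_zero_iff (R := X.presheaf.stalk y), Main.length_twist hL,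
      Module.length_eq_zero]
  have h0 : ∀ n, (Submodule.Quotient.mk (L.presheaf.germ ⊤ (ξ n) trivial s) :
      Cyc.secFibre L (ξ n)) ≠ 0 := fun n h => hout n ((Cycle.mem_range_iff i hD _).2 h)
  choose hm hc hdiv using fun n => Prime.spec_of_ne_zero hL hδ (hξ n) (h0 n)
  haveI : ∀ n, Mono (MulMap.mulS L s (O n)) := hm
  obtain ⟨hmg, -, hfg⟩ := Family.sigma_map_spec hlf hδ (fun n => MulMap.mulS L s (O n)) hMn hc
  haveI := hmg
  haveI := CurveBundle.Twist.isEquivalence hL
  let e : CohB1.tensorMod (∐ O) L ≅ ∐ M := PreservesCoproduct.iso (tensorBy L) O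
  have he : MulMap.mulS L s (∐ O) = Limits.Sigma.map (fun n => MulMap.mulS L s (O n)) ≫ e.inv := by
    refine Limits.Sigma.hom_ext _ _ fun n => ?_
    rw [MulMap.mulS_natural, Limits.Sigma.ι_map_assoc]
    congr 1
    show (tensorBy L).map (Limits.Sigma.ι O n) = _
    rw [show e.inv = sigmaComparison (tensorBy L) O from PreservesCoproduct.inv_hom (tensorBy L) O]
    exact (ι_comp_sigmaComparison (tensorBy L) O n).symm
  haveI hmO : Mono (MulMap.mulS L s (∐ O)) := by rw [he]; infer_instance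
  refine ⟨hmO, Family.cohLe_sigma hlf hOn fun n => ⟨cO n, fun y hy => ?_⟩, fun y hy hn => ?_, fun x => ?_⟩
  · by_cases hsp : ξ n ⤳ y
    · exact (DimFun.le_of_specializes hδ hsp).trans (hξ n).le
    · exact absurd (hOn n y hsp) (not_subsingleton_iff_nontrivial.2 hy)
  · by_contra hlt
    have hbot : (⊥ : Submodule (X.presheaf.stalk y) ((∐ O).presheaf.stalk y)) = ⊤ :=
      K0.Sum.span_stalk_sigma _ y _ fun n z => by
        haveI : Subsingleton ((O n).presheaf.stalk y) := hOn n y fun hsp => by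
          rcases eq_or_ne (ξ n) y with rfl | hne
          · exact hout n hy
          · have h1 := (hδ (ξ n) y hsp hne).1
            have h2 := hξ n
            omega
        rw [Subsingleton.elim z 0, map_zero]
        exact Submodule.zero_mem _
    obtain ⟨w, hw⟩ := exists_ne (0 : (∐ O).presheaf.stalk y)
    exact hw ((Submodule.mem_bot _).1 (hbot ▸ trivial : w ∈ (⊥ : Submodule (X.presheaf.stalk y) _)))
  · let eC : cokernel (MulMap.mulS L s (∐ O)) ≅
        cokernel (Limits.Sigma.map fun n => MulMap.mulS L s (O n)) :=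
      cokernelIsoOfEq he ≪≫ cokernelCompIsIso _ e.inv
    rw [show Cyc.sheafFun δ (k + 1) (cokernel (MulMap.mulS L s (∐ O))) x =
      Cyc.sheafFun δ (k + 1) (cokernel (Limits.Sigma.map fun n => MulMap.mulS L s (O n))) x by
        simp only [Cyc.sheafFun, (stalkLinearEquiv eC x).length_eq], hfg]
    exact finsum_congr fun n => hdiv n x

include hδ hL hD hlf hξ hout in
/-- Twisting by `N` a family meeting `D` properly. -/
theorem gys_twist {N : X.Modules} (hN : PicF.IsInvertible N) (v : ∀ n, N.presheaf.stalk (ξ n))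
    (hv : ∀ n, Lines.IsBasis N (v n)) :
    ∃ F₀ : D.Modules, Cyc.CohLe (fun d => δ (i d)) (k + 1) F₀ ∧
      gys i δ L s (k + 1) (k - 1) (Index.posPart (Index.twist hN v hv (Index.base ξ))) -
          gys i δ L s (k + 1) (k - 1) (Index.negPart (Index.twist hN v hv (Index.base ξ))) =
        Index.tw (fun d => δ (i d)) (k + 1) (k - 1) ((Scheme.Modules.pullback i).obj N) F₀ ∧
      ∀ d, Cyc.sheafFun (fun d => δ (i d)) (k + 1) F₀ d =
        ∑ᶠ n, Cyc.secDivFun δ L (ξ n) (Submodule.Quotient.mk (L.presheaf.germ ⊤ (ξ n) trivial s)) (i d) := by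
  haveI : IsLocallyNoetherian D := LocallyOfFiniteType.isLocallyNoetherian i
  obtain ⟨hmO, hOc, hin, hdivs⟩ := family_spec i hL hD hδ hlf hξ hout
  haveI := hmO
  let O := fun n => Cyc.closureStructureSheaf (ξ n)
  let M := fun n => CohB1.tensorMod (O n) N
  let T := Index.twist hN v hv (Index.base ξ)
  have cO : ∀ n, Coh.IsCoh (O n) := fun n => Devissage.Closure.isCoh_closureStructureSheaf _
  have cM : ∀ n, Coh.IsCoh (M n) := fun n => CurveBundle.Twist.isCoh hN (cO n)
  obtain ⟨hP, hQ, -⟩ := Chow.parts_spec hδ hlf hξ T cM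
  let u := Limits.Sigma.map fun n => Gen.incl (T n)
  let q := Limits.Sigma.map fun n => Gen.quot (T n)
  haveI : ∀ n, Mono (Gen.quot (T n)) := fun n => Gen.mono_quot (T n)
  haveI mu : Mono u := Retr.Family.mono_sigma_map _
  haveI mq : Mono q := Retr.Family.mono_sigma_map _
  have hOn : Family.OnCl ξ O := fun n y hy => Retr.Witness.stalk_trivial_of_not_specializes hy
  let J := fun n => Gen.J (T n)
  have hJn : Family.OnCl ξ J := fun n y hy =>
    haveI := hOn n y hy
    ((mono_iff_stalkMapₗ_injective (Gen.incl (T n))).1 inferInstance y).subsingleton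
  have hJc : Coh.IsCoh (∐ J) := Family.isCoh_sigma hlf hJn fun n => Gen.isCoh_J (T n) (cM n)
  have hJ : Cyc.CohLe δ (k + 1 + 1) (∐ J) := K0.Cycles.cohLe_of_mono u hJc hOc
  haveI := CurveBundle.Twist.isEquivalence hN
  let e : CohB1.tensorMod (∐ O) N ≅ ∐ M := PreservesCoproduct.iso (tensorBy N) O
  have hM : Cyc.CohLe δ (k + 1 + 1) (∐ M) :=
    K0.Cycles.cohLe_of_mono e.inv (CohBasics.Closure.isCoh_of_iso e (Main.cohLe_twist hN hOc).1)
      (Main.cohLe_twist hN hOc)
  have hMO : ∀ y, ∃ g : (∐ M).presheaf.stalk y →ₗ[X.presheaf.stalk y] (∐ O).presheaf.stalk y,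
      Function.Injective g := fun y =>
    ⟨_, (((stalkLinearEquiv e y).symm.trans (stalkLinearEquiv (TensorMod.Basic.comm (∐ O) N) y)).trans
      (Snapper.Twist.exists_stalkEquiv_twist hN (∐ O) y).some).injective⟩
  haveI hmM : Mono (MulMap.mulS L s (∐ M)) := mono_of_injective i hL hD (F := ∐ O) hMO
  haveI hmJ : Mono (MulMap.mulS L s (∐ J)) := mono_of_injective i hL hD (F := ∐ O)
    fun y => ⟨stalkMapₗ u y, (mono_iff_stalkMapₗ_injective u).1 inferInstance y⟩
  have hin' : ∀ {G : X.Modules}, (∀ y, ∃ g : G.presheaf.stalk y →ₗ[X.presheaf.stalk y]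
      (∐ O).presheaf.stalk y, Function.Injective g) → ∀ y ∈ Set.range ⇑i,
      Nontrivial (G.presheaf.stalk y) → δ y ≤ k + 1 := fun {G} hG y hy hn => hin y hy (by
    obtain ⟨g, hg⟩ := hG y
    haveI := hn
    exact hg.nontrivial)
  have sO := Rat.small_of_proper i hδ hL hD hOc hin
  have sM := Rat.small_of_proper i hδ hL hD hM (hin' hMO)
  have sJ := Rat.small_of_proper i hδ hL hD hJ (hin' fun y =>
    ⟨stalkMapₗ u y, (mono_iff_stalkMapₗ_injective u).1 inferInstance y⟩)
  have e1 := gys_add i hL hD (a := k + 1) (b := k - 1) (δ := δ) (s := s)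
    (Dev.Basic.shortExact_of_mono u) sJ sO (small_of_cohLe (s := s) hL hQ)
  have e2 := gys_add i hL hD (a := k + 1) (b := k - 1) (δ := δ) (s := s)
    (Dev.Basic.shortExact_of_mono q) sJ sM (small_of_cohLe (s := s) hL hP)
  obtain ⟨hF₀, gO, fO⟩ := gys_eq i hL hD (b := k - 1) sO
  obtain ⟨hF₁, gM, -⟩ := gys_eq i hL hD (b := k - 1) sM
  dsimp only at e1 e2
  rw [gO] at e1
  rw [gM] at e2
  have hL' := PicLoc.isInvertible_pullback i hN
  let pb := Scheme.Modules.pullback i
  let ι₀ : pb.obj (CohB1.tensorMod (∐ M) L) ≅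
      CohB1.tensorMod (pb.obj (CohB1.tensorMod (∐ O) L)) (pb.obj N) :=
    pb.mapIso (tensorIso e.symm (Iso.refl L) ≪≫ swapIso (∐ O) N L) ≪≫
      TensorMod.Pullback.pullbackTensorIso i (CohB1.tensorMod (∐ O) L) N
  rw [Retr.K0Tools.cl_iso ι₀ hF₁ (Main.cohLe_twist hL' hF₀).1] at e2
  refine ⟨_, hF₀, ?_, fun d => (fO d).trans (hdivs (i d))⟩
  rw [Index.tw, e2, e1]
  show gys i δ L s (k + 1) (k - 1) (cokernel q) - gys i δ L s (k + 1) (k - 1) (cokernel u) = _
  abel

end Family

end Groth.Agent.Lib.Cyc.Gys.Proper
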