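import Groth.Agent.Lib.Cyc.Gys.Cycle
import Groth.Agent.Lib.Cyc.Gys.Proper
import Groth.Agent.Lib.Cyc.C1K.Pull
import Groth.Agent.Lib.Cyc.CH.Restrict
import Mathlib.RingTheory.Flat.Equalizer

/-!
# The Gysin map of a relative effective Cartier divisor
-/

set_option autoImplicit false
set_option linter.style.haveILetI false
universe u

open CategoryTheory CategoryTheory.Limits AlgebraicGeometry
open scoped TensorProduct

namespace Groth.Agent.Lib.Cyc.Gys.RelCartier

open Groth.Agent.Lib Groth.Agent.Lib.Cyc Groth.Agent.Lib.Modules.StalkModule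
  Groth.Agent.Lib.Cyc.C1K

/-- Multiplication by `f` on `B ⊗ N` is injective when `B/f` is flat. -/
theorem smul_injective {A B C : Type u} [CommRing A] [CommRing B] [CommRing C] [Algebra A B]
    [Algebra A C] [Module.Flat A C] (φ : B →ₐ[A] C) (hφ : Function.Surjective φ) (f : B)
    (hker : RingHom.ker φ.toRingHom = Ideal.span {f}) (hf : ∀ b, f * b = 0 → b = 0)
    (N : Type u) [AddCommGroup N] [Module A N] :
    Function.Injective fun z : B ⊗[A] N => f • z := by
  let g : B →ₗ[A] B := LinearMap.mulLeft A f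
  have hg : Function.Injective g := fun a b hab => sub_eq_zero.1 (hf _ (by
    rw [mul_sub, sub_eq_zero]; exact hab))
  have H : Function.Exact g φ.toLinearMap := fun b => by
    constructor
    · intro hb
      obtain ⟨c, hc⟩ := Ideal.mem_span_singleton'.1
        (show b ∈ Ideal.span {f} by rw [← hker]; exact (RingHom.mem_ker (f := φ.toRingHom)).2 hb)
      exact ⟨c, (mul_comm f c).trans hc⟩
    · rintro ⟨c, rfl⟩
      exact (RingHom.mem_ker (f := φ.toRingHom)).1 (show f * c ∈ RingHom.ker φ.toRingHom by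
        rw [hker]; exact Ideal.mul_mem_right _ _ (Ideal.mem_span_singleton_self f))
  have h := LinearMap.lTensor_injective_of_exact_of_flat φ.toLinearMap hφ g hg H N
  have e : ∀ z : B ⊗[A] N, TensorProduct.comm A B N (f • z) =
      g.lTensor N (TensorProduct.comm A B N z) := fun z => by
    induction z using TensorProduct.induction_on with
    | zero => simp only [smul_zero, map_zero]
    | tmul b n => rfl
    | add a b ha hb => simp only [smul_add, map_add, ha, hb]
  intro a b hab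
  exact (TensorProduct.comm A B N).injective (h (by rw [← e, ← e]; exact congrArg _ hab))

section Mono

variable {X Y D : Scheme.{u}} (p : X ⟶ Y) (i : D ⟶ X) [IsClosedImmersion i] {L : X.Modules}
  {s : L.presheaf.obj (Opposite.op ⊤)} [Flat (i ≫ p)]

/-- `s` is a nonzerodivisor on `p^* G` when it is one on `O_X` and `D` is flat over `Y`. -/
theorem mono_mulS_pullback (hL : PicF.IsInvertible L) (hD : Cyc.IsZeroSchemeOf i L s)
    (hreg : ∀ x : X, Function.Injective
      (fun a : X.presheaf.stalk x => a • (L.presheaf.germ ⊤ x trivial) s)) (G : Y.Modules) :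
    Mono (MulMap.mulS L s ((Scheme.Modules.pullback p).obj G)) := by
  rw [mono_iff_stalkMapₗ_injective]
  intro x
  let F := (Scheme.Modules.pullback p).obj G
  by_cases hx : x ∈ Set.range ⇑i
  swap
  · obtain ⟨t, f, ht, hs⟩ := MulMap.exists_coeff L s hL x
    obtain ⟨E, hE⟩ := MulMap.exists_stalk L s hL ht hs F
    have hu := MulMap.isUnit_coeff L s hD hx hs
    intro a b hab
    have h := congrArg E hab
    rw [hE, hE] at h
    exact hu.smul_left_cancel.1 h
  obtain ⟨d, rfl⟩ := hx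
  obtain ⟨t, f, ht, hs, hker⟩ := hD.2 d
  obtain ⟨E, hE⟩ := MulMap.exists_stalk L s hL ht hs F
  have hf : ∀ b, f * b = 0 → b = 0 := fun b hb => hreg (i d) (by
    show b • _ = (0 : X.presheaf.stalk (i d)) • _
    rw [hs, smul_smul, mul_comm b f, hb, zero_smul, zero_smul])
  letI algB := (p.stalkMap (i d)).hom.toAlgebra
  letI algC : Algebra (Y.presheaf.stalk (p (i d))) (D.presheaf.stalk d) :=
    ((i.stalkMap d).hom.comp (p.stalkMap (i d)).hom).toAlgebra
  haveI : Module.Flat (Y.presheaf.stalk (p (i d))) (D.presheaf.stalk d) := by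
    have h := Flat.stalkMap (i ≫ p) d
    rw [Scheme.Hom.stalkMap_comp] at h
    exact h
  let φ : X.presheaf.stalk (i d) →ₐ[Y.presheaf.stalk (p (i d))] D.presheaf.stalk d :=
    { (i.stalkMap d).hom with commutes' := fun _ => rfl }
  have hinj := smul_injective φ (i.stalkMap_surjective d) f hker hf (G.presheaf.stalk (p (i d)))
  have hiso := (ConcreteCategory.isIso_iff_bijective
    ((DerivedOX.PullbackStalk.comparison p (i d)).app G)).1 inferInstance
  intro a b hab
  have h := congrArg E hab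
  rw [hE, hE] at h
  obtain ⟨a', rfl⟩ := hiso.2 a
  obtain ⟨b', rfl⟩ := hiso.2 b
  have hl : ∀ z, ((DerivedOX.PullbackStalk.comparison p (i d)).app G) (f • z) =
      f • ((DerivedOX.PullbackStalk.comparison p (i d)).app G) z := fun z => map_smul
        ((DerivedOX.PullbackStalk.comparison p (i d)).app G).hom f z
  exact congrArg _ (hinj (hiso.1 ((hl a').trans (h.trans (hl b').symm))))

end Mono

section Main

variable {X Y D : Scheme.{u}} (p : X ⟶ Y) [Flat p] (i : D ⟶ X) [IsClosedImmersion i] [Flat (i ≫ p)]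
  [IsLocallyNoetherian X] [IsLocallyNoetherian Y] {δX : X → ℤ} {δY : Y → ℤ} {L : X.Modules}
  {s : L.presheaf.obj (Opposite.op ⊤)} {c c' k k' : ℤ}

omit [IsLocallyNoetherian Y] in
/-- The two cycles attached to one module. -/
theorem exists_parts (hδX : Cyc.IsDimFun X δX) (hc : FP.Main.Shift p δX δY c)
    (hc' : FP.Main.Shift (i ≫ p) (fun d => δX (i d)) δY c') (hcc : c = c' + 1)
    (hk : k + 1 + c' = k') (hL : PicF.IsInvertible L) (hD : Cyc.IsZeroSchemeOf i L s)
    (hreg : ∀ x : X, Function.Injective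
      (fun a : X.presheaf.stalk x => a • (L.presheaf.germ ⊤ x trivial) s))
    {G : Y.Modules} (hG : Cyc.CohLe δY (k + 1) G) (w : (ξ : X) → Cyc.secFibre L ξ)
    (hw : ∀ ξ, w ξ ≠ 0) :
    ∃ A₁ B₁ C : D.Modules,
      Cyc.CohLe (fun d => δX (i d)) k' A₁ ∧ Cyc.CohLe (fun d => δX (i d)) k' B₁ ∧
      Cyc.CohLe (fun d => δX (i d)) k' C ∧
      Cyc.toK0CohQuot (fun d => δX (i d)) (k' + 1) (k' - 1) A₁ -
          Cyc.toK0CohQuot (fun d => δX (i d)) (k' + 1) (k' - 1) B₁ =
        Cyc.toK0CohQuot (fun d => δX (i d)) (k' + 1) (k' - 1) C ∧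
      (∀ d, Cyc.sheafFun (fun d => δX (i d)) k' A₁ d - Cyc.sheafFun (fun d => δX (i d)) k' B₁ d =
        Cyc.c1CapFun δX L (Cyc.sheafFun δX (k' + 1) ((Scheme.Modules.pullback p).obj G))
          (Cyc.gysinChoice L s w) (i d)) ∧
      ∀ d, Cyc.sheafFun (fun d => δX (i d)) k' C d =
        Cyc.pullFun (i ≫ p) (fun d => δX (i d)) δY c' (Cyc.sheafFun δY (k + 1) G) d := by
  haveI : IsLocallyNoetherian D := LocallyOfFiniteType.isLocallyNoetherian i
  have hδD := Closed.isDimFun i hδX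
  let F := (Scheme.Modules.pullback p).obj G
  have hF : Cyc.CohLe δX (k' + 1) F :=
    Retr.K0Tools.cohLe_mono (by omega) (Pull.cohLe_pullback p hδX hc hG)
  haveI : Mono (MulMap.mulS L s F) := mono_mulS_pullback p i hL hD hreg G
  obtain ⟨A, B, hA, hB, e, fe⟩ := Cycle.exists_gys i hδX hL hD hF w hw
  obtain ⟨-, eg, -⟩ := Proper.gys_eq i hL hD (b := k' - 1) (Class.small_of_cohLe (s := s) hL hF)
  let C := (Scheme.Modules.pullback i).obj (CohB1.tensorMod F L)
  let q : C ≅ CohB1.tensorMod ((Scheme.Modules.pullback (i ≫ p)).obj G)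
      ((Scheme.Modules.pullback i).obj L) :=
    TensorMod.Pullback.pullbackTensorIso i F L ≪≫
      TensorMod.Basic.tensorIso ((Scheme.Modules.pullbackComp i p).app G) (Iso.refl _)
  have hL' := PicLoc.isInvertible_pullback i hL
  have hp : Cyc.CohLe (fun d => δX (i d)) k' ((Scheme.Modules.pullback (i ≫ p)).obj G) :=
    Retr.K0Tools.cohLe_mono (by omega) (Pull.cohLe_pullback (i ≫ p) hδD hc' hG)
  have hCc : Coh.IsCoh C := FP.Stalk.isCoh_pullback i (CurveBundle.Twist.isCoh hL hF.1)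
  have hC : Cyc.CohLe (fun d => δX (i d)) k' C :=
    K0.Cycles.cohLe_of_mono q.hom hCc (Main.cohLe_twist hL' hp)
  refine ⟨A, B, C, hA, hB, hC, e.symm.trans eg, fe, fun d => ?_⟩
  rw [FP.Main.pullFun_sheafFun (i ≫ p) hδD hc' (k + 1) G hG.2, hk]
  simp only [Cyc.sheafFun, (stalkLinearEquiv q d).length_eq, Main.length_twist hL']

/-- `i^* p^* α ∼ (p|_D)^* α`. -/
theorem ratEquiv_gysin (hδX : Cyc.IsDimFun X δX) (hδY : Cyc.IsDimFun Y δY)
    (hc : FP.Main.Shift p δX δY c)
    (hc' : FP.Main.Shift (i ≫ p) (fun d => δX (i d)) δY c') (hcc : c = c' + 1)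
    (hk : k + 1 + c' = k') (hL : PicF.IsInvertible L) (hD : Cyc.IsZeroSchemeOf i L s)
    (hreg : ∀ x : X, Function.Injective
      (fun a : X.presheaf.stalk x => a • (L.presheaf.germ ⊤ x trivial) s))
    {α : AlgebraicCycle Y ℤ} (hα : α ∈ Cyc.Zk Y δY (k + 1))
    (w : (ξ : X) → Cyc.secFibre L ξ) (hw : ∀ ξ, w ξ ≠ 0) (γ ζ : AlgebraicCycle D ℤ)
    (hγ : ∀ d, γ d = Cyc.c1CapFun δX L (Cyc.pullFun p δX δY c ⇑α) (Cyc.gysinChoice L s w) (i d))
    (hζ : ⇑ζ = Cyc.pullFun (i ≫ p) (fun d => δX (i d)) δY c' ⇑α) :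
    Cyc.RatEquiv (fun d => δX (i d)) k' γ ζ := by
  haveI : IsLocallyNoetherian D := LocallyOfFiniteType.isLocallyNoetherian i
  let δD := fun d => δX (i d)
  have hδD : Cyc.IsDimFun D δD := Closed.isDimFun i hδX
  obtain ⟨hP, hN, hPN⟩ := C1K.Main.cycleSheaf_sub hδY α hα
  set P := Cyc.cycleSheafPos ⇑α
  set N := Cyc.cycleSheafNeg ⇑α
  obtain ⟨a₁, b₁, c₁, ha₁, hb₁, hc₁, e, p₁, p₂⟩ :=
    exists_parts p i hδX hc hc' hcc hk hL hD hreg hP w hw
  obtain ⟨a₃, b₃, c₃, ha₃, hb₃, hc₃, e', p₃, p₄⟩ :=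
    exists_parts p i hδX hc hc' hcc hk hL hD hreg hN w hw
  have hP' : Cyc.CohLe δX (k' + 1) ((Scheme.Modules.pullback p).obj P) :=
    Retr.K0Tools.cohLe_mono (by omega) (Pull.cohLe_pullback p hδX hc hP)
  have hN' : Cyc.CohLe δX (k' + 1) ((Scheme.Modules.pullback p).obj N) :=
    Retr.K0Tools.cohLe_mono (by omega) (Pull.cohLe_pullback p hδX hc hN)
  have hα' : ⇑α = fun z => Cyc.sheafFun δY (k + 1) P z - Cyc.sheafFun δY (k + 1) N z :=
    funext fun z => (hPN z).symm
  have hpull : ∀ y, Cyc.pullFun p δX δY c ⇑α y =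
      Cyc.sheafFun δX (k' + 1) ((Scheme.Modules.pullback p).obj P) y -
        Cyc.sheafFun δX (k' + 1) ((Scheme.Modules.pullback p).obj N) y := fun y => by
    rw [hα', FP.Rat.pullFun_sub, FP.Main.pullFun_sheafFun p hδX hc (k + 1) P hP.2,
      FP.Main.pullFun_sheafFun p hδX hc (k + 1) N hN.2, show k + 1 + c = k' + 1 by omega]
  have g := fun {M M' : D.Modules} (hM : Cyc.CohLe δD k' M) (hM' : Cyc.CohLe δD k' M') =>
    K0.Cycles.mk_rel δD (k' + 1) (k' - 1)
      (ShortComplex.Splitting.ofHasBinaryBiproduct M M').shortExact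
      (Retr.K0Tools.cohLe_mono (by omega) hM)
      (Retr.K0Tools.cohLe_mono (by omega) (K0.Cycles.cohLe_biprod hM hM'))
      (Retr.K0Tools.cohLe_mono (by omega) hM')
  refine Chow.ratEquivZero_of_cl hδD (K0.Cycles.cohLe_biprod ha₁ hb₃) (K0.Cycles.cohLe_biprod hb₁ ha₃)
    hc₁ hc₃ ?_ _ fun z => ?_
  · have g1 := g ha₁ hb₃
    have g2 := g hb₁ ha₃
    dsimp only at g1 g2
    rw [g1, g2]
    linear_combination (norm := abel) e - e'
  · rw [Function.locallyFinsuppWithin.coe_sub, Pi.sub_apply, hγ, hζ,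
      Chow.c1Cap_sub hδX hP' hN' hpull, ← p₁, ← p₃, hα', FP.Rat.pullFun_sub, ← p₂, ← p₄,
      Chow.sheafFun_biprod hδD ha₁ hb₃, Chow.sheafFun_biprod hδD hb₁ ha₃]
    ring

end Main

end Groth.Agent.Lib.Cyc.Gys.RelCartier
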