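import Groth.Agent.Lib.Cyc.Gys.Proper

/-!
# The Gysin image of a divisor of a rational section
-/

set_option autoImplicit false
set_option linter.style.haveILetI false
universe u

open CategoryTheory CategoryTheory.Limits AlgebraicGeometry

namespace Groth.Agent.Lib.Cyc.Gys.Divisor

open Groth.Agent.Lib Groth.Agent.Lib.Cyc Groth.Agent.Lib.Cyc.C1K Groth.Agent.Lib.Cyc.Gys.Class

variable {X D : Scheme.{u}} (i : D ⟶ X) [IsClosedImmersion i] [IsLocallyNoetherian X] {δ : X → ℤ}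
  {L N : X.Modules} {s : L.presheaf.obj (Opposite.op ⊤)} (hδ : Cyc.IsDimFun X δ)
  (hL : PicF.IsInvertible L) (hN : PicF.IsInvertible N) (hD : Cyc.IsZeroSchemeOf i L s) {k : ℤ}
  {ι : Type u} {ξ : ι → X} (hlf : Family.LF ξ) (hξ : ∀ n, δ (ξ n) = k + 1 + 1)
  (hout : ∀ n, ξ n ∉ Set.range ⇑i)

include hδ hL hN hD hlf hξ hout in
/-- `i^*(Σ div_N(v_n)) ∼ c₁(N|D) ∩ i^*(Σ [ξ_n])`. -/
theorem ratEquiv_gysin_div (vs : ∀ n, Cyc.secFibre N (ξ n)) (hvs : ∀ n, vs n ≠ 0)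
    (ρ : X → ℤ) (hρ : ∀ x, ρ x = ∑ᶠ n, Cyc.secDivFun δ N (ξ n) (vs n) x)
    (σ : D → ℤ) (w : (ξ : X) → Cyc.secFibre L ξ) (hw : ∀ ξ, w ξ ≠ 0)
    (hσ : ∀ d, σ d = ∑ᶠ n, Cyc.secDivFun δ L (ξ n) (Cyc.gysinChoice L s w (ξ n)) (i d))
    (t : (d : D) → Cyc.secFibre ((Scheme.Modules.pullback i).obj N) d) (ht : ∀ d, t d ≠ 0)
    (γ ζ : AlgebraicCycle D ℤ) (hγ : ∀ d, γ d = Cyc.c1CapFun δ L ρ (Cyc.gysinChoice L s w) (i d))
    (hζ : ⇑ζ = Cyc.c1CapFun (fun d => δ (i d)) ((Scheme.Modules.pullback i).obj N) σ t) :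
    Cyc.RatEquiv (fun d => δ (i d)) k γ ζ := by
  haveI : IsLocallyNoetherian D := LocallyOfFiniteType.isLocallyNoetherian i
  have hδD := Closed.isDimFun i hδ
  choose v hv hvv using fun n => Lines.exists_basis hN (vs n) (hvs n)
  let T := Index.twist hN v hv (Index.base ξ)
  have cM : ∀ n, Coh.IsCoh (CohB1.tensorMod (Cyc.closureStructureSheaf (ξ n)) N) := fun n =>
    CurveBundle.Twist.isCoh hN (Devissage.Closure.isCoh_closureStructureSheaf _)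
  obtain ⟨hP, hQ, hPQ⟩ := Chow.parts_spec hδ hlf hξ T cM
  have hρ' : ∀ x, ρ x = Cyc.sheafFun δ (k + 1) (Index.posPart T) x -
      Cyc.sheafFun δ (k + 1) (Index.negPart T) x := fun x => by
    rw [hρ, hPQ (fun n x => Cyc.secDivFun δ N (ξ n) (vs n) x)
      (fun n y => Chow.div_twist_base hδ (hξ n) hN (v n) (hv n) (vs n) (hvs n) (hvv n) y) x]
  obtain ⟨F₀, hF₀, htw, hF₀'⟩ := Proper.gys_twist i hL hD hδ hlf hξ hout hN v hv
  have hσ' : σ = Cyc.sheafFun (fun d => δ (i d)) (k + 1) F₀ := funext fun d => by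
    rw [hσ, hF₀']
    refine finsum_congr fun n => ?_
    rw [Cyc.gysinChoice, if_pos fun h => hout n ((Cycle.mem_range_iff i hD _).2 h)]
  obtain ⟨A, B, hA, hB, e, f⟩ := Cycle.exists_gys i hδ hL hD hP w hw
  obtain ⟨A', B', hA', hB', e', f'⟩ := Cycle.exists_gys i hδ hL hD hQ w hw
  obtain ⟨A₂, B₂, hA₂, hB₂, e₂, f₂⟩ :=
    Main.cl_twist_sub (PicLoc.isInvertible_pullback i hN) hδD hF₀ t fun d _ => ht d
  rw [Index.tw, e₂, e, e'] at htw
  have r := fun {P Q : D.Modules} (hP : Cyc.CohLe (fun d => δ (i d)) k P)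
      (hQ : Cyc.CohLe (fun d => δ (i d)) k Q) =>
    K0.Cycles.mk_rel (fun d => δ (i d)) (k + 1) (k - 1)
      (ShortComplex.Splitting.ofHasBinaryBiproduct P Q).shortExact
      (Retr.K0Tools.cohLe_mono (by omega) hP)
      (Retr.K0Tools.cohLe_mono (by omega) (K0.Cycles.cohLe_biprod hP hQ))
      (Retr.K0Tools.cohLe_mono (by omega) hQ)
  refine Chow.ratEquivZero_of_cl hδD (K0.Cycles.cohLe_biprod hA hB') (K0.Cycles.cohLe_biprod hB hA')
    hA₂ hB₂ ?_ _ fun d => ?_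
  · have g1 := r hA hB'
    have g2 := r hB hA'
    dsimp only at g1 g2
    rw [g1, g2, ← htw]
    abel
  · simp only [Function.locallyFinsuppWithin.coe_sub, Pi.sub_apply]
    rw [Chow.sheafFun_biprod hδD hA hB', Chow.sheafFun_biprod hδD hB hA', f₂, ← hσ', hγ, hζ,
      Chow.c1Cap_sub hδ hP hQ hρ', ← f, ← f']
    ring

end Groth.Agent.Lib.Cyc.Gys.Divisor
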