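import Groth.Agent.Lib.Cyc.PP.GysPush
import Groth.Agent.Lib.Cyc.C1K.Pull

/-!
# Flat pullback of multiplication by a section
-/

set_option autoImplicit false
set_option linter.style.haveILetI false
universe u

open CategoryTheory CategoryTheory.Limits AlgebraicGeometry
open scoped TensorProduct

namespace Groth.Agent.Lib.Cyc.Gys.PullMul

open Groth.Agent.Lib Groth.Agent.Lib.Cyc Groth.Agent.Lib.Modules.StalkModule

/-- Multiplication by `a` up to an isomorphism on a stalk, after pullback. -/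
theorem exists_stalk_pullback {X Y : Scheme.{u}} (f : X ⟶ Y) {F G : Y.Modules} (φ : F ⟶ G) (x : X)
    (a : Y.presheaf.stalk (f x))
    (E : G.presheaf.stalk (f x) ≃ₗ[Y.presheaf.stalk (f x)] F.presheaf.stalk (f x))
    (hE : ∀ m, E (stalkMapₗ φ (f x) m) = a • m) :
    ∃ E' : ((Scheme.Modules.pullback f).obj G).presheaf.stalk x ≃ₗ[X.presheaf.stalk x]
        ((Scheme.Modules.pullback f).obj F).presheaf.stalk x,
      ∀ m, E' (stalkMapₗ ((Scheme.Modules.pullback f).map φ) x m) = (f.stalkMap x).hom a • m := by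
  letI : Algebra (Y.presheaf.stalk (f x)) (X.presheaf.stalk x) := (f.stalkMap x).hom.toAlgebra
  let eF : (X.presheaf.stalk x ⊗[Y.presheaf.stalk (f x)] F.presheaf.stalk (f x)) ≃ₗ[X.presheaf.stalk x]
      ((Scheme.Modules.pullback f).obj F).presheaf.stalk x :=
    (asIso ((DerivedOX.PullbackStalk.comparison f x).app F)).toLinearEquiv
  let eG : (X.presheaf.stalk x ⊗[Y.presheaf.stalk (f x)] G.presheaf.stalk (f x)) ≃ₗ[X.presheaf.stalk x]
      ((Scheme.Modules.pullback f).obj G).presheaf.stalk x :=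
    (asIso ((DerivedOX.PullbackStalk.comparison f x).app G)).toLinearEquiv
  let Eb := E.baseChange (Y.presheaf.stalk (f x)) (X.presheaf.stalk x) _ _
  refine ⟨eG.symm.trans (Eb.trans eF), fun m => ?_⟩
  obtain ⟨t, rfl⟩ := eF.surjective m
  induction t using TensorProduct.induction_on with
  | zero => simp
  | add p q hp hq => simp only [map_add, smul_add, hp, hq]
  | tmul c v =>
    have hnat : stalkMapₗ ((Scheme.Modules.pullback f).map φ) x (eF (c ⊗ₜ v)) =
        eG (c ⊗ₜ stalkMapₗ φ (f x) v) :=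
      (ConcreteCategory.congr_hom ((DerivedOX.PullbackStalk.comparison f x).naturality φ) (c ⊗ₜ v)).symm
    rw [hnat, LinearEquiv.trans_apply, LinearEquiv.symm_apply_apply, LinearEquiv.trans_apply,
      ← map_smul]
    refine congrArg eF ?_
    show c ⊗ₜ E (stalkMapₗ φ (f x) v) = (f.stalkMap x).hom a • (c ⊗ₜ v)
    rw [hE, TensorProduct.tmul_smul, ← algebraMap_smul (X.presheaf.stalk x) a]
    rfl

section Compare

variable {X : Scheme.{u}} {A B B' : X.Modules} (φ : A ⟶ B) (ψ : A ⟶ B') (θ : B ≅ B')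

/-- Stalkwise `φ` and `ψ` are multiplication by the same ideal. -/
def SameCoeff : Prop :=
  ∀ x : X, ∃ (a b : X.presheaf.stalk x)
    (E₁ : B.presheaf.stalk x ≃ₗ[X.presheaf.stalk x] A.presheaf.stalk x)
    (E₂ : B'.presheaf.stalk x ≃ₗ[X.presheaf.stalk x] A.presheaf.stalk x),
    (Ideal.span {a} : Ideal (X.presheaf.stalk x)) = Ideal.span {b} ∧
      (∀ m, E₁ (stalkMapₗ φ x m) = a • m) ∧ (∀ m, E₂ (stalkMapₗ ψ x m) = b • m)

variable {φ ψ}

theorem SameCoeff.symm (h : SameCoeff φ ψ) : SameCoeff ψ φ := fun x => by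
  obtain ⟨a, b, E₁, E₂, hab, h₁, h₂⟩ := h x
  exact ⟨b, a, E₂, E₁, hab.symm, h₂, h₁⟩

theorem SameCoeff.postcomp (h : SameCoeff φ ψ) : SameCoeff (φ ≫ θ.hom) ψ := fun x => by
  obtain ⟨a, b, E₁, E₂, hab, h₁, h₂⟩ := h x
  refine ⟨a, b, (stalkLinearEquiv θ x).symm.trans E₁, E₂, hab, fun m => ?_, h₂⟩
  rw [LinearEquiv.trans_apply, ← h₁]
  congr 1
  rw [LinearEquiv.symm_apply_eq, stalkMapₗ_comp, LinearMap.comp_apply]
  rfl

theorem SameCoeff.kernel_ι_comp (h : SameCoeff φ ψ) : kernel.ι φ ≫ ψ = 0 := by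
  refine Modules.Stalk.hom_ext_stalk fun x => ?_
  ext m
  show stalkMapₗ (kernel.ι φ ≫ ψ) x m = stalkMapₗ (0 : kernel φ ⟶ B') x m
  obtain ⟨a, b, E₁, E₂, hab, h₁, h₂⟩ := h x
  obtain ⟨c, hc⟩ := Ideal.mem_span_singleton'.1
    (show b ∈ Ideal.span {a} by rw [hab]; exact Ideal.mem_span_singleton_self b)
  refine E₂.injective ?_
  rw [stalkMapₗ_comp, LinearMap.comp_apply, h₂, ← hc, mul_smul, ← h₁, ← LinearMap.comp_apply,
    ← stalkMapₗ_comp, kernel.condition, stalkMapₗ_zero, LinearMap.zero_apply, map_zero, smul_zero,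
    stalkMapₗ_zero, LinearMap.zero_apply, map_zero]

theorem SameCoeff.nonempty_kernelIso (h : SameCoeff φ ψ) : Nonempty (kernel φ ≅ kernel ψ) :=
  ⟨{ hom := kernel.lift ψ (kernel.ι φ) h.kernel_ι_comp
     inv := kernel.lift φ (kernel.ι ψ) h.symm.kernel_ι_comp
     hom_inv_id := by simp [← cancel_mono (kernel.ι φ)]
     inv_hom_id := by simp [← cancel_mono (kernel.ι ψ)] }⟩

theorem SameCoeff.comp_cokernel_π {φ : A ⟶ B} {ψ : A ⟶ B} (h : SameCoeff φ ψ) : φ ≫ cokernel.π ψ = 0 := by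
  refine Modules.Stalk.hom_ext_stalk fun x => ?_
  ext m
  show stalkMapₗ (φ ≫ cokernel.π ψ) x m = stalkMapₗ (0 : A ⟶ cokernel ψ) x m
  obtain ⟨a, b, E₁, E₂, hab, h₁, h₂⟩ := h x
  obtain ⟨d, hd⟩ := Ideal.mem_span_singleton'.1
    (show a ∈ Ideal.span {b} by rw [← hab]; exact Ideal.mem_span_singleton_self a)
  have key : stalkMapₗ φ x m = stalkMapₗ ψ x (d • E₂ (E₁.symm m)) := by
    refine E₂.injective ?_
    rw [h₂, smul_smul, mul_comm, hd,
      show stalkMapₗ φ x m = a • E₁.symm m from E₁.injective (by rw [h₁, map_smul, E₁.apply_symm_apply]),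
      map_smul]
  rw [stalkMapₗ_comp, LinearMap.comp_apply, key, ← LinearMap.comp_apply, ← stalkMapₗ_comp,
    cokernel.condition, stalkMapₗ_zero]
  rfl

theorem SameCoeff.nonempty_cokernelIso {φ ψ : A ⟶ B} (h : SameCoeff φ ψ) :
    Nonempty (cokernel φ ≅ cokernel ψ) :=
  ⟨{ hom := cokernel.desc φ (cokernel.π ψ) h.comp_cokernel_π
     inv := cokernel.desc ψ (cokernel.π φ) h.symm.comp_cokernel_π
     hom_inv_id := by simp [← cancel_epi (cokernel.π φ)]
     inv_hom_id := by simp [← cancel_epi (cokernel.π ψ)] }⟩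

end Compare

variable {X X' D : Scheme.{u}} (f : X' ⟶ X) (i : D ⟶ X) [IsClosedImmersion i] {L : X.Modules}
  {s : L.presheaf.obj (Opposite.op ⊤)}
  {s' : ((Scheme.Modules.pullback f).obj L).presheaf.obj (Opposite.op ⊤)}

/-- Pullback of `s` against multiplication by a section with the same zero scheme. -/
theorem sameCoeff (hL : PicF.IsInvertible L) (hD : Cyc.IsZeroSchemeOf i L s)
    (hD' : Cyc.IsZeroSchemeOf (pullback.fst f i) ((Scheme.Modules.pullback f).obj L) s') (F : X.Modules) :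
    SameCoeff ((Scheme.Modules.pullback f).map (MulMap.mulS L s F) ≫
        (TensorMod.Pullback.pullbackTensorIso f F L).hom)
      (MulMap.mulS ((Scheme.Modules.pullback f).obj L) s' ((Scheme.Modules.pullback f).obj F)) := by
  refine SameCoeff.postcomp _ fun x => ?_
  have hL' := PicLoc.isInvertible_pullback f hL
  obtain ⟨t, a, t', b, ht, hs, ht', hs', hab⟩ :
      ∃ (t : L.presheaf.stalk (f x)) (a : X.presheaf.stalk (f x))
        (t' : ((Scheme.Modules.pullback f).obj L).presheaf.stalk x) (b : X'.presheaf.stalk x),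
        Submodule.span (X.presheaf.stalk (f x)) {t} = ⊤ ∧
        L.presheaf.germ ⊤ (f x) trivial s = a • t ∧
        Submodule.span (X'.presheaf.stalk x) {t'} = ⊤ ∧
        ((Scheme.Modules.pullback f).obj L).presheaf.germ ⊤ x trivial s' = b • t' ∧
        (Ideal.span {f.stalkMap x a} : Ideal (X'.presheaf.stalk x)) = Ideal.span {b} := by
    by_cases hx : x ∈ Set.range ⇑(pullback.fst f i)
    · obtain ⟨z, rfl⟩ := hx
      obtain ⟨t, a, ht, hs, hker⟩ := PP.GysPush.exists_coeff f i hD z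
      obtain ⟨t', b, ht', hs', hker'⟩ := hD'.2 z
      exact ⟨t, a, t', b, ht, hs, ht', hs', hker.symm.trans hker'⟩
    · obtain ⟨t, a, ht, hs⟩ := MulMap.exists_coeff L s hL (f x)
      obtain ⟨t', b, ht', hs'⟩ := MulMap.exists_coeff ((Scheme.Modules.pullback f).obj L) s' hL' x
      refine ⟨t, a, t', b, ht, hs, ht', hs', ?_⟩
      have ha : IsUnit a := MulMap.isUnit_coeff L s hD
        (fun hc => hx ((PP.GysPush.mem_range_fst f i x).2 hc)) hs
      rw [Ideal.span_singleton_eq_top.2 (ha.map (f.stalkMap x).hom),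
        Ideal.span_singleton_eq_top.2 (MulMap.isUnit_coeff ((Scheme.Modules.pullback f).obj L) s' hD' hx hs')]
  obtain ⟨E, hE⟩ := MulMap.exists_stalk L s hL ht hs F
  obtain ⟨E₁, hE₁⟩ := exists_stalk_pullback f (MulMap.mulS L s F) x a E hE
  obtain ⟨E₂, hE₂⟩ := MulMap.exists_stalk ((Scheme.Modules.pullback f).obj L) s' hL' ht' hs'
    ((Scheme.Modules.pullback f).obj F)
  exact ⟨_, b, E₁, E₂, hab, hE₁, hE₂⟩

variable [Flat f] (hL : PicF.IsInvertible L) (hD : Cyc.IsZeroSchemeOf i L s)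
  (hD' : Cyc.IsZeroSchemeOf (pullback.fst f i) ((Scheme.Modules.pullback f).obj L) s') (F : X.Modules)

include hL hD hD' in
theorem nonempty_kernelIso :
    Nonempty ((Scheme.Modules.pullback f).obj (kernel (MulMap.mulS L s F)) ≅
      kernel (MulMap.mulS ((Scheme.Modules.pullback f).obj L) s' ((Scheme.Modules.pullback f).obj F))) := by
  haveI := C1K.Pull.preservesFiniteLimits_pullback f
  obtain ⟨e⟩ := (sameCoeff f i hL hD hD' F).nonempty_kernelIso
  exact ⟨PreservesKernel.iso (Scheme.Modules.pullback f) _ ≪≫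
    (kernelCompMono _ (TensorMod.Pullback.pullbackTensorIso f F L).hom).symm ≪≫ e⟩

include hL hD hD' in
theorem nonempty_cokernelIso :
    Nonempty ((Scheme.Modules.pullback f).obj (cokernel (MulMap.mulS L s F)) ≅
      cokernel (MulMap.mulS ((Scheme.Modules.pullback f).obj L) s' ((Scheme.Modules.pullback f).obj F))) := by
  haveI : PreservesColimitsOfSize.{0, 0} (Scheme.Modules.pullback f) :=
    (Scheme.Modules.pullbackPushforwardAdjunction f).leftAdjoint_preservesColimits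
  obtain ⟨e⟩ := (sameCoeff f i hL hD hD' F).nonempty_cokernelIso
  exact ⟨PreservesCokernel.iso (Scheme.Modules.pullback f) _ ≪≫
    (cokernelCompIsIso _ (TensorMod.Pullback.pullbackTensorIso f F L).hom).symm ≪≫ e⟩

end Groth.Agent.Lib.Cyc.Gys.PullMul
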