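import Groth.Agent.Lib.Cyc.Gys.MulMap
import Groth.Agent.Lib.Cyc.Gys.PullMul
import Groth.Agent.Lib.Cyc.Gys.Class

/-!
# The two ways of computing the Koszul homology of two sections
-/

set_option autoImplicit false
set_option linter.style.haveILetI false
universe u

open CategoryTheory CategoryTheory.Limits AlgebraicGeometry MonoidalCategory
open scoped TensorProduct

noncomputable section

namespace Groth.Agent.Lib.Cyc.Gys.Koszul

open Groth.Agent.Lib Groth.Agent.Lib.Cyc Groth.Agent.Lib.Modules.StalkModule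
  Groth.Agent.Lib.TensorMod.Basic Groth.Agent.Lib.Cyc.C1K

variable {X : Scheme.{u}} (L : X.Modules) (s : L.presheaf.obj (Opposite.op ⊤))

/-- Trivialisations of twists at a point, natural in the module. -/
structure Triv (x : X) (a : X.presheaf.stalk x) where
  e : ∀ F : X.Modules, (CohB1.tensorMod F L).presheaf.stalk x ≃ₗ[X.presheaf.stalk x] F.presheaf.stalk x
  nat : ∀ {F G : X.Modules} (φ : F ⟶ G) (z : (CohB1.tensorMod F L).presheaf.stalk x),
    e G (stalkMapₗ (tmap φ (𝟙 L)) x z) = stalkMapₗ φ x (e F z)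
  mul : ∀ (F : X.Modules) (m : F.presheaf.stalk x), e F (stalkMapₗ (MulMap.mulS L s F) x m) = a • m

theorem exists_triv (hL : PicF.IsInvertible L) (x : X) :
    ∃ a : X.presheaf.stalk x, Nonempty (Triv L s x a) := by
  obtain ⟨t, a, ht, hs⟩ := MulMap.exists_coeff L s hL x
  obtain ⟨t₀, ht₀, hfree⟩ := C1Indep.exists_free_gen hL x
  have ht' : ∀ b : X.presheaf.stalk x, b • t = 0 → b = 0 := by
    obtain ⟨c, hc⟩ := Submodule.mem_span_singleton.1
      (show t₀ ∈ Submodule.span (X.presheaf.stalk x) {t} by rw [ht]; trivial)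
    intro b hb
    exact hfree b (by rw [← hc, smul_comm, hb, smul_zero])
  let R := X.presheaf.stalk x
  let pL : R →ₗ[R] L.presheaf.stalk x := LinearMap.toSpanSingleton R _ t
  let pO : R →ₗ[R] (Coh.structureModule X).presheaf.stalk x :=
    LinearMap.toSpanSingleton R _ (C1.one x)
  have hpL : Function.Bijective pL := ⟨(injective_iff_map_eq_zero pL).2 ht', fun v => by
    obtain ⟨b, hb⟩ := Submodule.mem_span_singleton.1
      (show v ∈ Submodule.span R {t} by rw [ht]; trivial)
    exact ⟨b, hb⟩⟩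
  have hpO : Function.Bijective pO :=
    ⟨(injective_iff_map_eq_zero pO).2 fun b hb => C1.eq_zero_of_smul_one_eq_zero hb, fun v => by
    obtain ⟨b, hb⟩ := Submodule.mem_span_singleton.1
      (show v ∈ Submodule.span R {C1.one x} by rw [C1.span_one]; trivial)
    exact ⟨b, hb⟩⟩
  let ψ : L.presheaf.stalk x ≃ₗ[R] (Coh.structureModule X).presheaf.stalk x :=
    (LinearEquiv.ofBijective pL hpL).symm.trans (LinearEquiv.ofBijective pO hpO)
  let γ : ∀ F : X.Modules, F.presheaf.stalk x ≃ₗ[R] F.presheaf.stalk x ⊗[R] (Coh.structureModule X).presheaf.stalk x :=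
    fun F => (stalkLinearEquiv (rightUnit F).symm x).trans (TStalk.tS x F (Coh.structureModule X))
  have hγ : ∀ {F G : X.Modules} (φ : F ⟶ G) (m : F.presheaf.stalk x),
      γ G (stalkMapₗ φ x m) = LinearMap.rTensor _ (stalkMapₗ φ x) (γ F m) := by
    intro F G φ m
    have h1 : φ ≫ (rightUnit G).inv = (rightUnit F).inv ≫ tmap φ (𝟙 _) := by
      rw [Iso.eq_inv_comp, ← Category.assoc, ← rightUnit_natural, Category.assoc, Iso.hom_inv_id,
        Category.comp_id]
    show TStalk.tS x G _ (stalkMapₗ (rightUnit G).inv x (stalkMapₗ φ x m)) =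
      LinearMap.rTensor _ (stalkMapₗ φ x) (TStalk.tS x F _ (stalkMapₗ (rightUnit F).inv x m))
    rw [← LinearMap.comp_apply, ← stalkMapₗ_comp, h1, stalkMapₗ_comp, LinearMap.comp_apply, TStalk.tS_natural]
  have hψ : ∀ v, ψ (stalkMapₗ (ClSub.Cartier.ofSection L s) x v) = a • v := by
    intro v
    obtain ⟨b, rfl⟩ := hpO.2 v
    show ψ (stalkMapₗ (ClSub.Cartier.ofSection L s) x (b • C1.one x)) = a • b • C1.one x
    rw [map_smul, MulMap.ofSection_one, hs, map_smul, map_smul, smul_comm]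
    congr 2
    show pO ((LinearEquiv.ofBijective pL hpL).symm t) = C1.one x
    rw [show (LinearEquiv.ofBijective pL hpL).symm t = 1 from
      (LinearEquiv.symm_apply_eq _).2 (one_smul R t).symm]
    exact one_smul R _
  refine ⟨a, ⟨⟨fun F => (TStalk.tS x F L).trans ((LinearEquiv.lTensor _ ψ).trans (γ F).symm),
    fun {F G} φ z => ?_, fun F m => ?_⟩⟩⟩
  · show (γ G).symm (LinearEquiv.lTensor _ ψ (TStalk.tS x G L (stalkMapₗ (tmap φ (𝟙 L)) x z))) =
      stalkMapₗ φ x ((γ F).symm (LinearEquiv.lTensor _ ψ (TStalk.tS x F L z)))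
    rw [TStalk.tS_natural, LinearEquiv.symm_apply_eq, hγ, LinearEquiv.apply_symm_apply]
    generalize TStalk.tS x F L z = w
    induction w using TensorProduct.induction_on with
    | zero => simp only [map_zero]
    | tmul p q => rfl
    | add p q hp hq => simp only [map_add, hp, hq]
  · show (γ F).symm (LinearEquiv.lTensor _ ψ (TStalk.tS x F L (stalkMapₗ (MulMap.mulS L s F) x m))) = a • m
    have e1 : stalkMapₗ (MulMap.mulS L s F) x m =
        stalkMapₗ (tmap (𝟙 F) (ClSub.Cartier.ofSection L s)) x (stalkMapₗ (rightUnit F).inv x m) := by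
      rw [MulMap.mulS, stalkMapₗ_comp, LinearMap.comp_apply]
    rw [e1, MulMap.tS_natural_right]
    have e2 : ∀ z : F.presheaf.stalk x ⊗[R] (Coh.structureModule X).presheaf.stalk x,
        LinearEquiv.lTensor _ ψ (LinearMap.lTensor _ (stalkMapₗ (ClSub.Cartier.ofSection L s) x) z) =
          a • z := by
      intro z
      induction z using TensorProduct.induction_on with
      | zero => rw [map_zero, map_zero, smul_zero]
      | tmul p q => rw [LinearMap.lTensor_tmul, LinearEquiv.lTensor_tmul, hψ, TensorProduct.tmul_smul]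
      | add p q hp hq => rw [map_add, map_add, hp, hq, smul_add]
    rw [e2, map_smul]
    congr 1
    exact (γ F).symm_apply_apply m

/-- Stalks of cokernels. -/
theorem ker_π {A B : X.Modules} (φ : A ⟶ B) (x : X) :
    LinearMap.ker (stalkMapₗ (cokernel.π φ) x) = LinearMap.range (stalkMapₗ φ x) := by
  have h := (ShortComplex.exact_cokernel φ).map (stalkModFunctor X x)
  exact ((ShortComplex.moduleCat_exact_iff_range_eq_ker _).1 h).symm

/-- The isomorphism of quotients induced by an isomorphism. -/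
theorem exists_quot_equiv {A B A' B' : X.Modules} (φ : A ⟶ B) (φ' : A' ⟶ B') (x : X)
    (E : B.presheaf.stalk x ≃ₗ[X.presheaf.stalk x] B'.presheaf.stalk x)
    (h : ∀ z, z ∈ LinearMap.range (stalkMapₗ φ x) ↔ E z ∈ LinearMap.range (stalkMapₗ φ' x)) :
    ∃ G : (cokernel φ).presheaf.stalk x ≃ₗ[X.presheaf.stalk x] (cokernel φ').presheaf.stalk x,
      ∀ z, G (stalkMapₗ (cokernel.π φ) x z) = stalkMapₗ (cokernel.π φ') x (E z) := by
  let π := stalkMapₗ (cokernel.π φ) x
  let π' := (stalkMapₗ (cokernel.π φ') x).comp E.toLinearMap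
  have hπ : Function.Surjective π := (epi_iff_stalkMapₗ_surjective (cokernel.π φ)).1 inferInstance x
  have hπ' : Function.Surjective π' :=
    ((epi_iff_stalkMapₗ_surjective (cokernel.π φ')).1 inferInstance x).comp E.surjective
  have hk : LinearMap.ker π = LinearMap.ker π' := by
    ext z
    rw [ker_π, h]
    show _ ↔ stalkMapₗ (cokernel.π φ') x (E z) = 0
    rw [← LinearMap.mem_ker, ker_π]
  refine ⟨(π.quotKerEquivOfSurjective hπ).symm.trans
    ((Submodule.quotEquivOfEq _ _ hk).trans (π'.quotKerEquivOfSurjective hπ')), fun z => ?_⟩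
  rw [LinearEquiv.trans_apply, show (π.quotKerEquivOfSurjective hπ).symm (stalkMapₗ (cokernel.π φ) x z) =
    Submodule.Quotient.mk z from (LinearEquiv.symm_apply_eq _).2 rfl]
  rfl

variable {L s} (L' : X.Modules) (s' : L'.presheaf.obj (Opposite.op ⊤))

/-- Kernel and cokernel of `s'` on `F ⊗ L / s F` are those of `s` on `F ⊗ L' / s' F`. -/
theorem nonempty_isos (hL : PicF.IsInvertible L) (hL' : PicF.IsInvertible L') (F : X.Modules)
    [Mono (MulMap.mulS L s F)] [Mono (MulMap.mulS L' s' (CohB1.tensorMod F L))] :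
    Nonempty (kernel (MulMap.mulS L' s' (cokernel (MulMap.mulS L s F))) ≅
        kernel (MulMap.mulS L s (cokernel (MulMap.mulS L' s' F)))) ∧
      Nonempty (cokernel (MulMap.mulS L' s' (cokernel (MulMap.mulS L s F))) ≅
        cokernel (MulMap.mulS L s (cokernel (MulMap.mulS L' s' F)))) := by
  haveI := CurveBundle.Twist.isEquivalence hL
  haveI := CurveBundle.Twist.isEquivalence hL'
  have hS : (ShortComplex.mk (MulMap.mulS L s F) (cokernel.π (MulMap.mulS L s F))
      (cokernel.condition _)).ShortExact :=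
    Dev.Basic.shortExact_of_mono _
  set S := ShortComplex.mk (MulMap.mulS L s F) (cokernel.π (MulMap.mulS L s F)) (cokernel.condition _)
  have hS' := CurveBundle.Twist.shortExact hL' hS
  let v : S ⟶ _ := ShortComplex.homMk (S₂ := S.map (tensorBy L')) (MulMap.mulS L' s' S.X₁)
    (MulMap.mulS L' s' S.X₂) (MulMap.mulS L' s' S.X₃) (MulMap.mulS_natural L' s' S.f).symm
    (MulMap.mulS_natural L' s' S.g).symm
  let D' := Dev.Basic.snake hS hS' v
  let g := cokernel.map (MulMap.mulS L' s' F) (MulMap.mulS L' s' (CohB1.tensorMod F L))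
    (MulMap.mulS L s F) (tmap (MulMap.mulS L s F) (𝟙 L')) (MulMap.mulS_natural L' s' (MulMap.mulS L s F)).symm
  -- the connecting map
  have hz : IsZero D'.L₀.X₂ := isZero_kernel_of_mono (MulMap.mulS L' s' (CohB1.tensorMod F L))
  haveI : Mono D'.L₂'.f := D'.L₁'_exact.mono_g (hz.eq_of_src _ _)
  let eK : kernel (MulMap.mulS L' s' (cokernel (MulMap.mulS L s F))) ≅ kernel g :=
    D'.L₂'_exact.fIsKernel.conePointUniqueUpToIso (limit.isLimit _)
  haveI : Epi D'.L₃.g := by
    change Epi (cokernel.map v.τ₂ v.τ₃ S.g _ v.comm₂₃)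
    haveI : Epi (S.map (tensorBy L')).g := hS'.epi_g
    haveI : Epi ((S.map (tensorBy L')).g ≫ cokernel.π v.τ₃) := epi_comp _ _
    exact epi_of_epi_fac (show cokernel.π v.τ₂ ≫ _ = _ ≫ cokernel.π v.τ₃ from cokernel.π_desc _ _ _)
  let eC : cokernel (MulMap.mulS L' s' (cokernel (MulMap.mulS L s F))) ≅ cokernel g :=
    D'.L₃_exact.gIsCokernel.coconePointUniqueUpToIso (colimit.isColimit _)
  -- comparison of targets
  let θ₀ : CohB1.tensorMod (CohB1.tensorMod F L) L' ≅ CohB1.tensorMod (CohB1.tensorMod F L') L :=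
    assoc F L L' ≪≫ tensorIso (Iso.refl F) (comm L L') ≪≫ (assoc F L' L).symm
  have h₁ : PullMul.SameCoeff (MulMap.mulS L' s' (CohB1.tensorMod F L))
      (tmap (MulMap.mulS L' s' F) (𝟙 L)) := fun x => by
    obtain ⟨a, ⟨T⟩⟩ := exists_triv L s hL x
    obtain ⟨b, ⟨T'⟩⟩ := exists_triv L' s' hL' x
    refine ⟨b, b, T'.e (CohB1.tensorMod F L), (T.e _).trans ((T'.e F).trans (T.e F).symm), rfl,
      T'.mul _, fun m => ?_⟩
    show (T.e F).symm (T'.e F (T.e _ (stalkMapₗ (tmap (MulMap.mulS L' s' F) (𝟙 L)) x m))) = b • m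
    rw [T.nat, T'.mul, map_smul, LinearEquiv.symm_apply_apply]
  let θ : cokernel (MulMap.mulS L' s' (CohB1.tensorMod F L)) ≅
      CohB1.tensorMod (cokernel (MulMap.mulS L' s' F)) L :=
    (cokernelCompIsIso _ θ₀.hom).symm ≪≫ (h₁.postcomp θ₀).nonempty_cokernelIso.some ≪≫
      (PreservesCokernel.iso (tensorBy L) (MulMap.mulS L' s' F)).symm
  have hg : PullMul.SameCoeff g (MulMap.mulS L s (cokernel (MulMap.mulS L' s' F))) := fun x => by
    obtain ⟨a, ⟨T⟩⟩ := exists_triv L s hL x
    obtain ⟨b, ⟨T'⟩⟩ := exists_triv L' s' hL' x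
    let E : (CohB1.tensorMod (CohB1.tensorMod F L) L').presheaf.stalk x ≃ₗ[X.presheaf.stalk x]
        (CohB1.tensorMod F L').presheaf.stalk x :=
      (T'.e (CohB1.tensorMod F L)).trans ((T.e F).trans (T'.e F).symm)
    obtain ⟨G, hG⟩ := exists_quot_equiv (MulMap.mulS L' s' (CohB1.tensorMod F L)) (MulMap.mulS L' s' F) x E
      fun z => by
        have key : ∀ m, E (stalkMapₗ (MulMap.mulS L' s' (CohB1.tensorMod F L)) x m) =
            stalkMapₗ (MulMap.mulS L' s' F) x (T.e F m) := fun m => by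
          show (T'.e F).symm (T.e F (T'.e _ (stalkMapₗ (MulMap.mulS L' s' _) x m))) = _
          rw [T'.mul, map_smul, LinearEquiv.symm_apply_eq, T'.mul]
        constructor
        · rintro ⟨m, rfl⟩
          exact ⟨T.e F m, (key m).symm⟩
        · rintro ⟨m, hm⟩
          exact ⟨(T.e F).symm m, E.injective (by rw [key, LinearEquiv.apply_symm_apply, hm])⟩
    refine ⟨a, a, G, T.e _, rfl, fun m => ?_, T.mul _⟩
    obtain ⟨y, rfl⟩ := (epi_iff_stalkMapₗ_surjective (cokernel.π (MulMap.mulS L' s' F))).1 inferInstance x m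
    rw [← LinearMap.comp_apply (stalkMapₗ g x), ← stalkMapₗ_comp,
      show cokernel.π (MulMap.mulS L' s' F) ≫ g =
        tmap (MulMap.mulS L s F) (𝟙 L') ≫ cokernel.π (MulMap.mulS L' s' (CohB1.tensorMod F L)) from
        cokernel.π_desc _ _ _,
      stalkMapₗ_comp, LinearMap.comp_apply, hG, ← map_smul]
    refine congrArg _ ?_
    show (T'.e F).symm (T.e F (T'.e _ (stalkMapₗ (tmap (MulMap.mulS L s F) (𝟙 L')) x y))) = a • y
    rw [T'.nat, T.mul, map_smul, LinearEquiv.symm_apply_apply]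
  exact ⟨⟨eK ≪≫ hg.nonempty_kernelIso.some⟩,
    ⟨eC ≪≫ (cokernelCompIsIso g θ.hom).symm ≪≫ (hg.postcomp θ).nonempty_cokernelIso.some⟩⟩

end Groth.Agent.Lib.Cyc.Gys.Koszul
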